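import Mathlib
import Cfsg.Prelude.Def_Solvable
import Cfsg.Agent.Lib.Basic
import Cfsg.Agent.Lib.Signalizer.Functor
import Cfsg.Agent.Lib.HallSolvable
import Cfsg.Agent.Lib.PSolvable

/-!
Groups in which all subgroups of order prime to `p` are abelian of exponent dividing `p - 1`:
elementary properties.
-/

set_option autoImplicit false
set_option linter.unusedSectionVars false

namespace CfsgLib.ExpPm1

open Cfsg
open scoped commutatorElement

universe u
variable {G : Type u} [Group G] {p : ℕ}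

/-- The hypothesis. -/
def Hyp (p : ℕ) (G : Type u) [Group G] : Prop :=
  ∀ H : Subgroup G, (Nat.card H).Coprime p →
    (∀ a ∈ H, ∀ b ∈ H, a * b = b * a) ∧ ∀ x ∈ H, x ^ (p - 1) = 1

theorem Hyp.subgroup (h : Hyp p G) (K : Subgroup G) : Hyp p ↥K := by
  intro H hH
  obtain ⟨h1, h2⟩ := h (H.map K.subtype)
    (by rwa [Subgroup.card_map_of_injective K.subtype_injective])
  exact ⟨fun a ha b hb => Subtype.ext (h1 _ ⟨a, ha, rfl⟩ _ ⟨b, hb, rfl⟩),
    fun x hx => Subtype.ext (by simpa using h2 _ ⟨x, hx, rfl⟩)⟩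

/-- A `p`-element. -/
def IsPEl (p : ℕ) (x : G) : Prop := ∃ k : ℕ, x ^ p ^ k = 1

/-- An element of order prime to `p`. -/
def IsPreg (p : ℕ) (x : G) : Prop := ¬ p ∣ orderOf x

theorem isPEl_one : IsPEl p (1 : G) := ⟨0, one_pow _⟩

theorem isPEl_of_mem {P : Subgroup G} (hP : IsPGroup p P) {x : G} (hx : x ∈ P) : IsPEl p x := by
  obtain ⟨k, hk⟩ := hP ⟨x, hx⟩
  exact ⟨k, by simpa using congrArg Subtype.val hk⟩

theorem IsPEl.pow {x : G} (h : IsPEl p x) (n : ℕ) : IsPEl p (x ^ n) := by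
  obtain ⟨k, hk⟩ := h
  exact ⟨k, by rw [← pow_mul, mul_comm, pow_mul, hk, one_pow]⟩

theorem IsPEl.conj {x : G} (h : IsPEl p x) (g : G) : IsPEl p (g * x * g⁻¹) := by
  obtain ⟨k, hk⟩ := h
  exact ⟨k, by rw [conj_pow, hk]; simp⟩

theorem IsPEl.isPGroup_zpowers {x : G} (h : IsPEl p x) : IsPGroup p (Subgroup.zpowers x) := by
  obtain ⟨k, hk⟩ := h
  rintro ⟨y, n, rfl⟩
  refine ⟨k, Subtype.ext ?_⟩
  show (x ^ n) ^ p ^ k = 1
  rw [← zpow_natCast, zpow_comm, zpow_natCast, hk, one_zpow]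

theorem isPreg_one (hp : p.Prime) : IsPreg p (1 : G) := by
  simp [IsPreg, hp.ne_one]

theorem IsPreg.conj {x : G} (h : IsPreg p x) (g : G) : IsPreg p (g * x * g⁻¹) := by
  unfold IsPreg
  rwa [← MulAut.conj_apply, MulEquiv.orderOf_eq]

theorem IsPreg.pow {x : G} (h : IsPreg p x) (n : ℕ) : IsPreg p (x ^ n) :=
  fun hd => h (hd.trans (orderOf_pow_dvd n))

theorem isPreg_of_mem [Finite G] (hp : p.Prime) {H : Subgroup G} (hH : (Nat.card H).Coprime p) {x : G}
    (hx : x ∈ H) : IsPreg p x := fun hd =>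
  hp.not_dvd_one (hH ▸ Nat.dvd_gcd (hd.trans (Subgroup.orderOf_dvd_natCard _ hx)) dvd_rfl)

theorem coprime_of_isPreg [Finite G] (hp : p.Prime) {H : Subgroup G}
    (h : ∀ x ∈ H, IsPreg p x) : (Nat.card H).Coprime p := by
  haveI := Fact.mk hp
  refine (hp.coprime_iff_not_dvd.2 fun hd => ?_).symm
  obtain ⟨⟨x, hx⟩, ho⟩ := exists_prime_orderOf_dvd_card' p hd
  exact h x hx (by rw [← Subgroup.orderOf_mk x hx, ho])

theorem IsPreg.coprime_zpowers {x : G} (hp : p.Prime) (h : IsPreg p x) :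
    (Nat.card (Subgroup.zpowers x)).Coprime p := by
  rw [Nat.card_zpowers]
  exact (hp.coprime_iff_not_dvd.2 h).symm

theorem eq_one_of_isPEl_of_isPreg (hp : p.Prime) {x : G} (h1 : IsPEl p x) (h2 : IsPreg p x) : x = 1 := by
  obtain ⟨k, hk⟩ := h1
  obtain ⟨e, -, he⟩ := (Nat.dvd_prime_pow hp).1 (orderOf_dvd_of_pow_eq_one hk)
  rcases e.eq_zero_or_pos with rfl | he0
  · exact orderOf_eq_one_iff.1 (by simpa using he)
  · exact absurd (he ▸ dvd_pow_self p he0.ne') h2

/-- The decomposition of an element into commuting `p`- and `p'`-parts. -/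
theorem exists_parts [Finite G] (hp : p.Prime) (x : G) :
    ∃ z w : G, z * w = x ∧ Commute z w ∧ IsPEl p z ∧ IsPreg p w ∧
      z ∈ Subgroup.zpowers x ∧ w ∈ Subgroup.zpowers x := by
  obtain ⟨k, m, hm, hkm⟩ :=
    Nat.exists_eq_pow_mul_and_not_dvd (orderOf_pos x).ne' p hp.ne_one
  have hcop : Nat.Coprime (p ^ k) m := (hp.coprime_iff_not_dvd.2 hm).pow_left k
  have hbz := Nat.gcd_eq_gcd_ab (p ^ k) m
  rw [hcop] at hbz
  set a := Nat.gcdA (p ^ k) m
  set b := Nat.gcdB (p ^ k) m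
  refine ⟨x ^ ((m : ℤ) * b), x ^ (((p ^ k : ℕ) : ℤ) * a), ?_, ?_, ⟨k, ?_⟩, ?_,
    ⟨_, rfl⟩, ⟨_, rfl⟩⟩
  · rw [← _root_.zpow_add, add_comm, ← hbz]; simp
  · exact Commute.zpow_zpow_self x _ _
  · rw [← zpow_natCast, ← _root_.zpow_mul, ← orderOf_dvd_iff_zpow_eq_one, hkm]
    exact ⟨b, by push_cast; ring⟩
  · have h : (x ^ (((p ^ k : ℕ) : ℤ) * a)) ^ m = 1 := by
      rw [← zpow_natCast, ← _root_.zpow_mul, ← orderOf_dvd_iff_zpow_eq_one, hkm]
      exact ⟨a, by push_cast; ring⟩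
    exact fun hd => hm (hd.trans (orderOf_dvd_of_pow_eq_one h))

theorem parts_unique (hp : p.Prime) {z w z' w' : G} (hc : Commute z w) (hc' : Commute z' w')
    (hz : IsPEl p z) (hz' : IsPEl p z') (hw : IsPreg p w) (hw' : IsPreg p w')
    (h : z * w = z' * w') : z = z' ∧ w = w' := by
  obtain ⟨i, hi⟩ := hz
  obtain ⟨j, hj⟩ := hz'
  set N := p ^ (i + j) with hN
  have e1 : z ^ N = 1 := by rw [hN, pow_add, pow_mul, hi, one_pow]
  have e2 : z' ^ N = 1 := by rw [hN, pow_add, mul_comm (p ^ i), pow_mul, hj, one_pow]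
  have e3 : w ^ N = w' ^ N := by
    have := congrArg (· ^ N) h
    simpa [hc.mul_pow, hc'.mul_pow, e1, e2] using this
  have hcw : ∀ {v : G}, IsPreg p v → N.Coprime (orderOf v) := fun hv =>
    (hp.coprime_iff_not_dvd.2 hv).pow_left _
  have ho : orderOf w = orderOf w' := by
    rw [← (hcw hw).symm.orderOf_pow, e3, (hcw hw').symm.orderOf_pow]
  obtain ⟨m, hm⟩ := exists_pow_eq_self_of_coprime (hcw hw)
  obtain ⟨m', hm'⟩ := exists_pow_eq_self_of_coprime (x := w') (hcw hw')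
  have hw'' : w' ∈ Subgroup.zpowers (w ^ N) := by
    have := pow_mem (Subgroup.mem_zpowers (w' ^ N)) m'
    rw [e3]
    rwa [hm'] at this
  obtain ⟨t, ht⟩ := hw''
  have hcomm : Commute w w' := by rw [← ht]; exact ((Commute.refl w).pow_right N).zpow_right t
  have hww : w = w' := by
    have h1 : (w * w'⁻¹) ^ N = 1 := by
      rw [hcomm.inv_right.mul_pow, inv_pow, e3, mul_inv_cancel]
    have h2 : orderOf (w * w'⁻¹) ∣ orderOf w * orderOf w'⁻¹ :=
      (hcomm.inv_right.orderOf_mul_dvd_lcm).trans (Nat.lcm_dvd_mul _ _)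
    rw [orderOf_inv] at h2
    have h3 : orderOf (w * w'⁻¹) = 1 := Nat.eq_one_of_dvd_coprimes
      (((hcw hw).mul_right (hcw hw'))) (orderOf_dvd_of_pow_eq_one h1) h2
    exact mul_inv_eq_one.1 (orderOf_eq_one_iff.1 h3)
  exact ⟨mul_right_cancel (hww ▸ h), hww⟩

theorem Hyp.pow_eq_one (hp : p.Prime) (h : Hyp p G) {x : G} (hx : IsPreg p x) : x ^ (p - 1) = 1 :=
  (h _ (hx.coprime_zpowers hp)).2 x (Subgroup.mem_zpowers x)

theorem Hyp.orderOf_lt (hp : p.Prime) (h : Hyp p G) {x : G} (hx : IsPreg p x) : orderOf x < p := by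
  have h1 := Nat.le_of_dvd (by have := hp.two_le; omega) (orderOf_dvd_of_pow_eq_one (h.pow_eq_one hp hx))
  have := hp.two_le
  omega

theorem isPreg_of_prime_ne [Finite G] (hp : p.Prime) {r : ℕ} (hr : r.Prime) (hrp : r ≠ p) {x : G}
    (hx : ∃ k, x ^ r ^ k = 1) : IsPreg p x := fun hd => by
  obtain ⟨k, hk⟩ := hx
  exact hrp ((Nat.prime_dvd_prime_iff_eq hp hr).1
    (hp.dvd_of_dvd_pow (hd.trans (orderOf_dvd_of_pow_eq_one hk)))).symm

theorem coprime_of_isPGroup [Finite G] (hp : p.Prime) {r : ℕ} (hr : r.Prime) (hrp : r ≠ p)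
    {R : Subgroup G} (hR : IsPGroup r R) : (Nat.card R).Coprime p :=
  coprime_of_isPreg hp fun _ hx => isPreg_of_prime_ne hp hr hrp (isPEl_of_mem hR hx)

theorem Hyp.dvd_pred [Finite G] (hp : p.Prime) (h : Hyp p G) {r : ℕ} (hr : r.Prime) (hrp : r ≠ p)
    (hd : r ∣ Nat.card G) : r ∣ p - 1 := by
  haveI := Fact.mk hr
  obtain ⟨x, hx⟩ := exists_prime_orderOf_dvd_card' r hd
  rw [← hx]
  refine orderOf_dvd_of_pow_eq_one (h.pow_eq_one hp fun hpx => hrp ?_)
  rw [hx] at hpx
  exact ((Nat.prime_dvd_prime_iff_eq hp hr).1 hpx).symm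

/-- A `p'`-element normalising a `p'`-subgroup centralises it. -/
theorem Hyp.commute_of_normalizes [Finite G] (hp : p.Prime) (h : Hyp p G) {R : Subgroup G}
    (hR : (Nat.card R).Coprime p) {x : G} (hx : IsPreg p x)
    (hn : x ∈ Subgroup.normalizer (R : Set G)) {a : G} (ha : a ∈ R) : x * a = a * x := by
  have hc : (Nat.card ↥(R ⊔ Subgroup.zpowers x)).Coprime p :=
    Nat.Coprime.coprime_dvd_left (Signalizer.card_sup_dvd (Subgroup.zpowers_le.2 hn))
      ((hx.coprime_zpowers hp).mul_left hR)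
  exact (h _ hc).1 x (Subgroup.mem_sup_right (Subgroup.mem_zpowers x)) a (Subgroup.mem_sup_left ha)

/-- A permutation of `p`-power order on fewer than `p` points is trivial. -/
theorem perm_eq_one (hp : p.Prime) {α : Type*} [Finite α] (σ : Equiv.Perm α) (hα : Nat.card α < p)
    {k : ℕ} (hσ : σ ^ p ^ k = 1) : σ = 1 := by
  have h1 : orderOf σ ∣ (Nat.card α).factorial := by
    rw [← Nat.card_perm]; exact orderOf_dvd_natCard σ
  refine eq_one_of_isPEl_of_isPreg hp ⟨k, hσ⟩ fun hd => ?_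
  exact absurd ((hp.dvd_factorial).1 (hd.trans h1)) (by omega)

/-- A `p`-element normalising a subgroup of order less than `p` centralises it. -/
theorem commute_of_card_lt [Finite G] (hp : p.Prime) {C : Subgroup G} (hC : Nat.card C < p) {x : G}
    (hx : IsPEl p x) (hn : x ∈ Subgroup.normalizer (C : Set G)) {c : G} (hc : c ∈ C) :
    x * c = c * x := by
  obtain ⟨k, hk⟩ := hx
  set φ := (MulAut.toPerm (M := C)).comp C.normalizerMonoidHom with hφ
  have h1 : φ ⟨x, hn⟩ = 1 := perm_eq_one hp _ hC (k := k) (by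
    rw [← map_pow, show (⟨x, hn⟩ : Subgroup.normalizer (C : Set G)) ^ p ^ k = 1 from
      Subtype.ext (by simpa using hk), map_one])
  have h2 : x * c * x⁻¹ = c := congrArg Subtype.val (Equiv.ext_iff.1 h1 ⟨c, hc⟩)
  exact mul_inv_eq_iff_eq_mul.1 h2

/-- A `p`-element normalising a cyclic subgroup of exponent dividing `p - 1` centralises it. -/
theorem commute_of_cyclic [Finite G] (hp : p.Prime) {C : Subgroup G} [IsCyclic C]
    (hexp : ∀ c ∈ C, c ^ (p - 1) = 1) {x : G} (hx : IsPEl p x)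
    (hn : x ∈ Subgroup.normalizer (C : Set G)) {c : G} (hc : c ∈ C) : x * c = c * x := by
  refine commute_of_card_lt hp ?_ hx hn hc
  obtain ⟨g, hg⟩ := IsCyclic.exists_generator (α := C)
  have h1 : orderOf g ∣ p - 1 := orderOf_dvd_of_pow_eq_one (Subtype.ext (by simpa using hexp _ g.2))
  rw [orderOf_eq_card_of_forall_mem_zpowers hg] at h1
  have := hp.two_le
  have := Nat.le_of_dvd (by omega) h1
  omega

/-- The hypothesis passes to quotients. -/
theorem Hyp.quotient [Finite G] (hp : p.Prime) (h : Hyp p G) (N : Subgroup G) [N.Normal] :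
    Hyp p (G ⧸ N) := by
  haveI := Fact.mk hp
  intro Hb hHb
  set π := QuotientGroup.mk' N with hπ
  obtain ⟨X, hX, hmin⟩ := (Set.toFinite {X : Subgroup G | X.map π = Hb}).exists_minimal
    ⟨Hb.comap π, Subgroup.map_comap_eq_self_of_surjective (QuotientGroup.mk'_surjective N) Hb⟩
  have hX' : X.map π = Hb := hX
  set f := π.comp X.subtype with hf
  have hfk : f.ker ≤ frattini X := by
    refine le_iInf₂ fun M hM => ?_
    by_contra hle
    have htop : M ⊔ f.ker = ⊤ := hM.2 _ (left_lt_sup.2 hle)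
    have hMX : M.map X.subtype ≤ X := Subgroup.map_subtype_le M
    have hmap : (M.map X.subtype).map π = Hb := by
      rw [Subgroup.map_map, ← hX']
      have h1 : (M ⊔ f.ker).map f = M.map f := by
        rw [Subgroup.map_sup, sup_eq_left]
        rintro _ ⟨y, hy, rfl⟩
        rw [show f y = 1 from hy]
        exact one_mem _
      rw [← hf, ← h1, htop, ← MonoidHom.range_eq_map, hf, MonoidHom.range_comp, Subgroup.range_subtype]
    have := hmin hmap hMX
    apply hM.1
    rw [eq_top_iff]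
    intro y _
    obtain ⟨z, hz, e⟩ := this y.2
    rwa [← Subtype.ext (a1 := z) (a2 := y) e]
  obtain ⟨Q⟩ := (inferInstance : Nonempty (Sylow p X))
  have hQf : (Q : Subgroup X) ≤ frattini X := by
    refine le_trans ?_ hfk
    intro y hy
    refine eq_one_of_isPEl_of_isPreg hp ?_ ?_
    · obtain ⟨k, hk⟩ := isPEl_of_mem Q.2 hy
      exact ⟨k, by rw [← map_pow, hk, map_one]⟩
    · refine isPreg_of_mem hp hHb ?_
      rw [← hX']
      exact ⟨y, y.2, rfl⟩
  haveI hN : Group.IsNilpotent (frattini X) := frattini_nilpotent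
  have hQn : (Q : Subgroup X).Normal := by
    let Q' : Sylow p (frattini X) := Q.subtype hQf
    haveI : (Q' : Subgroup (frattini X)).Normal := by
      have := ((isNilpotent_of_finite_tfae (G := frattini X)).out 0 3).1 hN
      exact this p inferInstance Q'
    haveI := Sylow.characteristic_of_normal Q' inferInstance
    have e : (Q' : Subgroup (frattini X)).map (frattini X).subtype = Q :=
      Subgroup.map_subgroupOf_eq_of_le hQf
    rw [← e]
    infer_instance
  obtain ⟨C, hC⟩ := Subgroup.exists_right_complement'_of_coprime (N := (Q : Subgroup X)) Q.card_coprime_index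
  have hCtop : C = ⊤ := by
    refine frattini_nongenerating (eq_top_iff.2 ?_)
    rw [← hC.sup_eq_top]
    exact sup_le (hQf.trans le_sup_right) le_sup_left
  have hQbot : (Q : Subgroup X) = ⊥ := by
    have := hC.disjoint
    rwa [hCtop, disjoint_top] at this
  have hXc : (Nat.card X).Coprime p := by
    have := Q.not_dvd_index
    rw [hQbot, Subgroup.index_bot] at this
    exact (hp.coprime_iff_not_dvd.2 this).symm
  obtain ⟨h1, h2⟩ := h X hXc
  rw [← hX']
  refine ⟨?_, ?_⟩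
  · rintro _ ⟨a, ha, rfl⟩ _ ⟨b, hb, rfl⟩
    rw [← map_mul, ← map_mul, h1 a ha b hb]
  · rintro _ ⟨a, ha, rfl⟩
    rw [← map_pow, h2 a ha, map_one]

end CfsgLib.ExpPm1
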