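import Cfsg.Agent.Lib.ExpPm1.Struct
import Cfsg.Agent.Lib.CharTheory.Burnside

/-!
The count: a group in which every `p'`-subgroup is abelian of exponent dividing `p - 1` is solvable.
-/

set_option autoImplicit false
set_option linter.unusedSectionVars false

namespace CfsgLib.ExpPm1

open Cfsg
open scoped commutatorElement Pointwise

universe u
variable {G : Type u} [Group G] {p : ℕ}

theorem Good.conj [Finite G] {M : Subgroup G} (hM : Good p M) (g : G) : Good p (MulAut.conj g • M) := by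
  refine ⟨⟨fun h => hM.1.1 ?_, fun b hb => ?_⟩, fun r hr hrp hrd => ?_⟩
  · have := congrArg (fun X : Subgroup G => MulAut.conj g⁻¹ • X) h
    simp only [smul_smul, ← map_mul, inv_mul_cancel, map_one, one_smul] at this
    rw [this, eq_top_iff]
    intro x _
    rw [CfsgLib.mem_conj_smul_iff]
    exact Subgroup.mem_top _
  · have h2 := hM.1.2 (MulAut.conj g⁻¹ • b) (by
      rw [show M = MulAut.conj g⁻¹ • (MulAut.conj g • M) by
        rw [smul_smul, ← map_mul, inv_mul_cancel, map_one, one_smul]]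
      exact lt_of_le_of_ne (Subgroup.pointwise_smul_le_pointwise_smul_iff.2 hb.le)
        fun e => hb.ne (MulAction.injective (MulAut.conj g⁻¹) e))
    rw [eq_top_iff]
    intro x _
    have := h2 ▸ Subgroup.mem_top (g⁻¹ * x * g)
    rw [CfsgLib.mem_conj_smul_iff] at this
    simpa [mul_assoc] using this
  · rw [CfsgLib.card_conj_smul] at hrd
    obtain ⟨hU, R, hRM⟩ := hM.2 r hr hrp hrd
    exact ⟨hU.conj g, g • R, by
      rw [Sylow.coe_subgroup_smul, Subgroup.pointwise_smul_le_pointwise_smul_iff]; exact hRM⟩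

/-- The owner of a nontrivial element of order prime to `p`. -/
theorem Setting.exists_owner [Finite G] (hS : Setting p G) {y : G} (hy : IsPreg p y) (hy1 : y ≠ 1) :
    ∃ M : Subgroup G, Good p M ∧ (∃ q : ℕ, q.Prime ∧ q ≠ p ∧ q ∣ Nat.card M) ∧ y ∈ M ∧
      Subgroup.centralizer ({y} : Set G) ≤ M := by
  obtain ⟨q, hq, hqd⟩ := Nat.exists_prime_and_dvd (mt orderOf_eq_one_iff.1 hy1)
  haveI := Fact.mk hq
  have hqp : q ≠ p := fun e => hy (e ▸ hqd)
  have hqG : q ∣ Nat.card G := hqd.trans (orderOf_dvd_natCard y)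
  obtain ⟨M, hM, hqM⟩ := hS.exists_good hq hqp hqG
  obtain ⟨-, R, hRM⟩ := hM.2 q hq hqp hqM
  set v := y ^ (orderOf y / q) with hv
  have hvo : orderOf v = q := orderOf_pow_orderOf_div (orderOf_pos y).ne' hqd
  obtain ⟨Q, hQ⟩ := (IsPEl.isPGroup_zpowers (p := q) (x := v) ⟨1, by rw [pow_one, ← hvo, pow_orderOf_eq_one]⟩).exists_le_sylow
  obtain ⟨g, hg⟩ := MulAction.exists_smul_eq G R Q
  have hQM : (Q : Subgroup G) ≤ MulAut.conj g • M := by
    rw [← hg, Sylow.coe_subgroup_smul, Subgroup.pointwise_smul_le_pointwise_smul_iff]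
    exact hRM
  have hvM := hQM (hQ (Subgroup.mem_zpowers v))
  have hM' := hM.conj g
  have hqM' : q ∣ Nat.card ↥(MulAut.conj g • M) := by rwa [CfsgLib.card_conj_smul]
  have hC : Subgroup.centralizer ({y} : Set G) ≤ MulAut.conj g • M := fun z hz =>
    (hM'.2 q hq hqp hqM').1.centralizer_le hvM hvo (Subgroup.mem_centralizer_singleton_iff.2
      ((show Commute z y from Subgroup.mem_centralizer_singleton_iff.1 hz).pow_right _).eq)
  exact ⟨_, hM', ⟨q, hq, hqp, hqM'⟩, hC (Subgroup.mem_centralizer_singleton_iff.2 rfl), hC⟩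

theorem exists_owns [Finite G] [Fact p.Prime] {M D₀ : Subgroup G} (hM : Good p M)
    (hq : ∃ q : ℕ, q.Prime ∧ q ≠ p ∧ q ∣ Nat.card M) (hD₀ : D₀ ≤ M) (hp : IsPGroup p D₀) :
    ∃ D, Owns p M D ∧ D₀ ≤ D := by
  obtain ⟨S, hS⟩ := (hp.comap_subtype (K := M)).exists_le_sylow
  refine ⟨(S : Subgroup M).map M.subtype, ⟨hM, hq, Subgroup.map_subtype_le _, S.2.map _, ?_⟩, ?_⟩
  · rw [Subgroup.relIndex, Subgroup.subgroupOf, Subgroup.comap_map_eq_self_of_injective M.subtype_injective]
    exact S.not_dvd_index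
  · rw [← Subgroup.map_subgroupOf_eq_of_le hD₀]
    exact Subgroup.map_mono hS

/-- For a nontrivial `p`-element, there are at least as many Sylow subgroups containing it as `p'`-elements
centralising it. -/
theorem Setting.card_preg_centralizer_le [Finite G] (hS : Setting p G) [Fact p.Prime] {x : G}
    (hx : IsPEl p x) (hx1 : x ≠ 1) :
    Nat.card {y : G // IsPreg p y ∧ Commute x y} ≤ Nat.card {P : Sylow p G // x ∈ (P : Subgroup G)} := by
  by_cases hall : ∀ y, IsPreg p y → Commute x y → y = 1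
  · obtain ⟨P, hP⟩ := hx.isPGroup_zpowers.exists_le_sylow
    haveI : Nonempty {P : Sylow p G // x ∈ (P : Subgroup G)} := ⟨⟨P, hP (Subgroup.mem_zpowers x)⟩⟩
    haveI : Subsingleton {y : G // IsPreg p y ∧ Commute x y} :=
      ⟨fun a b => Subtype.ext ((hall a a.2.1 a.2.2).trans (hall b b.2.1 b.2.2).symm)⟩
    exact (Finite.card_le_one_iff_subsingleton.2 inferInstance).trans Nat.card_pos
  push Not at hall
  obtain ⟨y₀, hy₀, hxy₀, hy₀1⟩ := hall
  obtain ⟨M, hM, hq, hy₀M, hCy⟩ := hS.exists_owner hy₀ hy₀1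
  have hxM : x ∈ M := hCy (Subgroup.mem_centralizer_singleton_iff.2 hxy₀.eq)
  obtain ⟨D, hO, hxD⟩ := exists_owns hM hq (Subgroup.zpowers_le.2 hxM) hx.isPGroup_zpowers
  have hxD' : x ∈ D := hxD (Subgroup.mem_zpowers x)
  have hCx := hO.centralizer_le hS hxD' hx1 (hO.mem_core hS hy₀M hy₀) hy₀1 hxy₀.eq
  obtain ⟨P, hDP⟩ := hO.isPGroup.exists_le_sylow
  let φ : {y : G // IsPreg p y ∧ Commute x y} → {P : Sylow p G // x ∈ (P : Subgroup G)} := fun y =>
    ⟨(y : G) • P, by
      rw [Sylow.coe_subgroup_smul, CfsgLib.mem_conj_smul_iff, mul_assoc, y.2.2.eq, inv_mul_cancel_left]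
      exact hDP hxD'⟩
  refine Nat.card_le_card_of_injective φ fun a b e => ?_
  have e' : (a : G) • P = (b : G) • P := congrArg Subtype.val e
  have hcore : ∀ y : {y : G // IsPreg p y ∧ Commute x y}, (y : G) ∈ core p M := fun y =>
    hO.mem_core hS (hCx (Subgroup.mem_centralizer_singleton_iff.2 y.2.2.eq.symm)) y.2.1
  set k := (b : G)⁻¹ * (a : G) with hk
  have hkc : k ∈ core p M := mul_mem (inv_mem (hcore b)) (hcore a)
  have hkP : k • P = P := by rw [hk, mul_smul, e', inv_smul_smul]
  have hkn : k ∈ Subgroup.normalizer ((P : Subgroup G) : Set G) := Sylow.smul_eq_iff_mem_normalizer.1 hkP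
  have hk1 : k = 1 := by
    refine hO.eq_one_of_commute hS hkc fun d hd => ?_
    have h1 : k * d * k⁻¹ * d⁻¹ ∈ (P : Subgroup G) :=
      mul_mem ((Subgroup.mem_normalizer_iff.1 hkn d).1 (hDP hd)) (inv_mem (hDP hd))
    have h2 : k * d * k⁻¹ * d⁻¹ ∈ core p M := by
      rw [show k * d * k⁻¹ * d⁻¹ = k * (d * k⁻¹ * d⁻¹) by group]
      exact mul_mem hkc (core_conj (hO.le hd) (inv_mem hkc))
    have h3 := eq_one_of_isPEl_of_isPreg hS.hp (isPEl_of_mem P.2 h1)
      (isPreg_of_mem hS.hp (card_core_coprime M) h2)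
    rw [mul_inv_eq_one, mul_inv_eq_iff_eq_mul] at h3
    exact h3.symm
  exact Subtype.ext (inv_mul_eq_one.1 hk1).symm

/-- The `p'`-elements with order divisible by `q` fill at most a `p`-th of the group. -/
theorem Setting.mul_card_preg_le [Finite G] (hS : Setting p G) {q : ℕ} (hq : q.Prime) (hqp : q ≠ p)
    (hqd : q ∣ Nat.card G) : p * Nat.card {y : G // IsPreg p y ∧ q ∣ orderOf y} ≤ Nat.card G := by
  haveI := Fact.mk hS.hp
  haveI := Fact.mk hq
  obtain ⟨M, hM, hqM⟩ := hS.exists_good hq hqp hqd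
  obtain ⟨D, hO, -⟩ := exists_owns hM ⟨q, hq, hqp, hqM⟩ (bot_le : (⊥ : Subgroup G) ≤ M) IsPGroup.of_bot
  obtain ⟨hU, R, hRM⟩ := hM.2 q hq hqp hqM
  let f : (G ⧸ M) × core p M → G := fun a => a.1.out * (a.2 : G) * a.1.out⁻¹
  have hsur : ∀ y : {y : G // IsPreg p y ∧ q ∣ orderOf y}, ∃ a, f a = (y : G) := by
    rintro ⟨y, hy, hqy⟩
    set v := y ^ (orderOf y / q) with hv
    have hvo : orderOf v = q := orderOf_pow_orderOf_div (orderOf_pos y).ne' hqy
    obtain ⟨Q, hQ⟩ := (IsPEl.isPGroup_zpowers (p := q) (x := v)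
      ⟨1, by rw [pow_one, ← hvo, pow_orderOf_eq_one]⟩).exists_le_sylow
    obtain ⟨g, hg⟩ := MulAction.exists_smul_eq G R Q
    have hv' : g⁻¹ * v * g ∈ M := by
      have h1 := hQ (Subgroup.mem_zpowers v)
      rw [← hg, Sylow.coe_subgroup_smul, CfsgLib.mem_conj_smul_iff] at h1
      exact hRM h1
    have hy' : g⁻¹ * y * g ∈ M := by
      refine hU.centralizer_le hv' ?_ (Subgroup.mem_centralizer_singleton_iff.2 ?_)
      · rw [show g⁻¹ * v * g = MulAut.conj g⁻¹ v by simp, MulEquiv.orderOf_eq, hvo]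
      · have hc : y * v = v * y := ((Commute.refl y).pow_right _).eq
        calc g⁻¹ * y * g * (g⁻¹ * v * g) = g⁻¹ * (y * v) * g := by group
          _ = g⁻¹ * (v * y) * g := by rw [hc]
          _ = g⁻¹ * v * g * (g⁻¹ * y * g) := by group
    have hcore : g⁻¹ * y * g ∈ core p M :=
      hO.mem_core hS hy' (by simpa using hy.conj g⁻¹)
    obtain ⟨m, hm⟩ := QuotientGroup.mk_out_eq_mul M g
    refine ⟨((g : G ⧸ M), ⟨(m : G)⁻¹ * (g⁻¹ * y * g) * m, ?_⟩), ?_⟩
    · simpa using core_conj (inv_mem m.2) hcore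
    · show (g : G ⧸ M).out * ((m : G)⁻¹ * (g⁻¹ * y * g) * m) * (g : G ⧸ M).out⁻¹ = y
      rw [hm]; group
  choose a ha using hsur
  have h1 := Nat.card_le_card_of_injective a fun y z e => Subtype.ext (by rw [← ha y, ← ha z, e])
  rw [Nat.card_prod] at h1
  have hpM : p ∣ Nat.card M := by
    obtain ⟨k, hk⟩ := hO.isPGroup.exists_card_eq
    have hk0 : k ≠ 0 := fun h => hO.ne_bot hS (Subgroup.eq_bot_of_card_eq D (by rw [hk, h, pow_zero]))
    exact ((dvd_pow_self p hk0).trans (dvd_of_eq hk.symm)).trans (Subgroup.card_dvd_of_le hO.le)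
  have h2 : p * Nat.card (core p M) ≤ Nat.card M :=
    Nat.le_of_dvd Nat.card_pos ((card_core_coprime M).symm.mul_dvd_of_dvd_of_dvd hpM
      (Subgroup.card_dvd_of_le (core_le M)))
  calc p * Nat.card {y : G // IsPreg p y ∧ q ∣ orderOf y}
      ≤ p * (Nat.card (G ⧸ M) * Nat.card (core p M)) := Nat.mul_le_mul_left p h1
    _ = Nat.card (G ⧸ M) * (p * Nat.card (core p M)) := by ring
    _ ≤ Nat.card (G ⧸ M) * Nat.card M := Nat.mul_le_mul_left _ h2
    _ = Nat.card G := (Subgroup.card_eq_card_quotient_mul_card_subgroup M).symm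

theorem Setting.false [Finite G] (hS : Setting p G) : False := by
  classical
  haveI := Fact.mk hS.hp
  haveI := Fintype.ofFinite G
  obtain ⟨P⟩ := (inferInstance : Nonempty (Sylow p G))
  set n := Nat.card (Sylow p G) with hn
  set π := Nat.card (P : Subgroup G) with hπ
  set S := (Nat.card G).primeFactors.erase p with hSdef
  -- `p'`-elements
  set A := Nat.card {y : G // IsPreg p y} with hA
  have hA' : p * A ≤ p + S.card * Nat.card G := by
    have hsub : (Finset.univ.filter fun y : G => IsPreg p y) ⊆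
        insert 1 (S.biUnion fun q => Finset.univ.filter fun y : G => IsPreg p y ∧ q ∣ orderOf y) := by
      intro y hy
      rw [Finset.mem_filter] at hy
      rw [Finset.mem_insert]
      by_cases h1 : y = 1
      · exact Or.inl h1
      refine Or.inr (Finset.mem_biUnion.2 ?_)
      obtain ⟨q, hq, hqd⟩ := Nat.exists_prime_and_dvd (mt orderOf_eq_one_iff.1 h1)
      exact ⟨q, Finset.mem_erase.2 ⟨fun e => hy.2 (e ▸ hqd), Nat.mem_primeFactors.2
        ⟨hq, hqd.trans (orderOf_dvd_natCard y), Nat.card_pos.ne'⟩⟩, Finset.mem_filter.2 ⟨hy.1, hy.2, hqd⟩⟩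
    have h1 := ((Finset.card_le_card hsub).trans (Finset.card_insert_le _ _)).trans
      (Nat.add_le_add_right Finset.card_biUnion_le 1)
    have hAeq : A = (Finset.univ.filter fun y : G => IsPreg p y).card := by
      rw [hA, Nat.card_eq_fintype_card, Fintype.card_subtype]
    rw [← hAeq] at h1
    have h2 := Nat.mul_le_mul_left p h1
    rw [Nat.mul_add, mul_one, Finset.mul_sum] at h2
    refine h2.trans ?_
    rw [add_comm]
    refine Nat.add_le_add_left ?_ p
    refine (Finset.sum_le_card_nsmul S _ (Nat.card G) fun q hq => ?_).trans (le_of_eq (smul_eq_mul _ _))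
    obtain ⟨hqp, hq'⟩ := Finset.mem_erase.1 hq
    obtain ⟨hq2, hqd, -⟩ := Nat.mem_primeFactors.1 hq'
    have := hS.mul_card_preg_le hq2 hqp hqd
    rwa [Nat.card_eq_fintype_card, Fintype.card_subtype] at this
  have hS2 : 2 * S.card ≤ p - 1 := by
    have hsub : S ⊆ Finset.Icc 2 ((p - 1) / 2) := by
      intro q hq
      obtain ⟨hqp, hq'⟩ := Finset.mem_erase.1 hq
      obtain ⟨hq2, hqd, -⟩ := Nat.mem_primeFactors.1 hq'
      have h5 := hS.five
      have hlt := hS.r_lt hq2 hqp hqd
      obtain ⟨t, ht⟩ := hS.hyp.dvd_pred hS.hp hq2 hqp hqd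
      have ht2 : 2 ≤ t := by
        rcases t with _ | _ | t
        · omega
        · omega
        · omega
      rw [Finset.mem_Icc, Nat.le_div_iff_mul_le two_pos]
      exact ⟨hq2.two_le, by rw [ht]; exact Nat.mul_le_mul_left q ht2⟩
    have := Finset.card_le_card hsub
    rw [Nat.card_Icc] at this
    have h5 := hS.five
    omega
  -- `p`-singular elements
  choose z w hzw hcomm hz hw _ _ using fun g : G => exists_parts hS.hp g
  have hG : Nat.card G ≤ A + n * (π - 1) := by
    let f : G → {y : G // IsPreg p y} ⊕ (Σ x : {x : G // IsPEl p x ∧ x ≠ 1},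
        {y : G // IsPreg p y ∧ Commute (x : G) y}) := fun g =>
      if h : z g = 1 then Sum.inl ⟨w g, hw g⟩ else Sum.inr ⟨⟨z g, hz g, h⟩, ⟨w g, hw g, hcomm g⟩⟩
    have hf : Function.Injective f := by
      intro a b e
      simp only [f] at e
      by_cases ha : z a = 1 <;> by_cases hb : z b = 1
      · rw [dif_pos ha, dif_pos hb, Sum.inl.injEq, Subtype.mk.injEq] at e
        rw [← hzw a, ← hzw b, ha, hb, e]
      · rw [dif_pos ha, dif_neg hb] at e; exact absurd e Sum.inl_ne_inr
      · rw [dif_neg ha, dif_pos hb] at e; exact absurd e Sum.inr_ne_inl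
      · rw [dif_neg ha, dif_neg hb, Sum.inr.injEq] at e
        have e1 : z a = z b := congrArg (fun s => ((s.1 : {x : G // IsPEl p x ∧ x ≠ 1}) : G)) e
        have e2 : w a = w b := congrArg (fun s : (Σ x : {x : G // IsPEl p x ∧ x ≠ 1},
          {y : G // IsPreg p y ∧ Commute (x : G) y}) => (s.2 : G)) e
        rw [← hzw a, ← hzw b, e1, e2]
    have h1 := Nat.card_le_card_of_injective f hf
    rw [Nat.card_sum] at h1
    refine h1.trans (Nat.add_le_add_left ?_ A)
    have h2 : Nat.card (Σ x : {x : G // IsPEl p x ∧ x ≠ 1}, {y : G // IsPreg p y ∧ Commute (x : G) y}) ≤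
        Nat.card (Σ x : {x : G // IsPEl p x ∧ x ≠ 1}, {Q : Sylow p G // (x : G) ∈ (Q : Subgroup G)}) := by
      rw [Nat.card_sigma, Nat.card_sigma]
      exact Finset.sum_le_sum fun x _ => hS.card_preg_centralizer_le x.2.1 x.2.2
    refine h2.trans ?_
    have h3 : Nat.card (Σ Q : Sylow p G, {a : (Q : Subgroup G) // a ≠ 1}) = n * (π - 1) := by
      rw [Nat.card_sigma]
      have hc : ∀ Q : Sylow p G, Nat.card {a : (Q : Subgroup G) // a ≠ 1} = π - 1 := by
        intro Q
        rw [Nat.card_eq_fintype_card, Fintype.card_subtype_compl, Fintype.card_subtype_eq,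
          ← Nat.card_eq_fintype_card, hπ, Nat.card_congr (Sylow.equiv Q P).toEquiv]
      rw [Finset.sum_congr rfl fun Q _ => hc Q, Finset.sum_const, smul_eq_mul, Finset.card_univ,
        ← Nat.card_eq_fintype_card, hn]
    rw [← h3]
    refine Nat.card_le_card_of_injective (fun s => ⟨s.2.1, ⟨⟨(s.1 : G), s.2.2⟩,
      fun h => s.1.2.2 (congrArg Subtype.val h)⟩⟩) ?_
    rintro ⟨⟨a, ha⟩, ⟨Q, hQ⟩⟩ ⟨⟨b, hb⟩, ⟨Q', hQ'⟩⟩ e
    have e1 : Q = Q' := congrArg Sigma.fst e
    subst e1
    have e2 : a = b := congrArg (fun s : (Σ Q : Sylow p G, {a : (Q : Subgroup G) // a ≠ 1}) => ((s.2 : (s.1 : Subgroup G)) : G)) e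
    subst e2
    rfl
  have hnπ : n * (2 * π) ≤ Nat.card G := by
    rw [hn, Sylow.card_eq_index_normalizer P, ← Subgroup.index_mul_card
      (Subgroup.normalizer ((P : Subgroup G) : Set G))]
    exact Nat.mul_le_mul_left _ (hS.two_mul_card_le P)
  have hn1 : 1 ≤ n := Nat.card_pos
  have hπ1 : 1 ≤ π := Nat.card_pos
  have hG0 : 1 ≤ Nat.card G := Nat.card_pos
  have hp5 := hS.five
  have e1 : n * (π - 1) + n = n * π := by rw [← Nat.mul_succ, Nat.succ_eq_add_one, Nat.sub_add_cancel hπ1]
  have e2 : (2 * S.card + 1) * Nat.card G ≤ p * Nat.card G := Nat.mul_le_mul_right _ (by omega)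
  have e3 : 2 * p * (Nat.card G + n) ≤ 2 * (p * A) + p * (n * (2 * π)) := by
    calc 2 * p * (Nat.card G + n) ≤ 2 * p * (A + n * (π - 1) + n) := Nat.mul_le_mul_left _ (by omega)
      _ = 2 * (p * A) + p * (n * (2 * π)) := by rw [add_assoc, e1]; ring
  have e4 := Nat.mul_le_mul_left p hnπ
  nlinarith

theorem Hyp.isSolvable : ∀ (c : ℕ) {G : Type u} [Group G] [Finite G],
    Nat.card G = c → p.Prime → Hyp p G → Group.IsSolvable G := by
  intro c
  induction c using Nat.strong_induction_on with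
  | h c ih =>
    intro G _ _ hc hp h
    subst hc
    by_cases hN : ∃ N : Subgroup G, N.Normal ∧ N ≠ ⊥ ∧ N ≠ ⊤
    · obtain ⟨N, hNn, hN0, hN1⟩ := hN
      haveI := hNn
      haveI : Nontrivial N := (Subgroup.nontrivial_iff_ne_bot N).2 hN0
      have h1 : Nat.card N < Nat.card G :=
        lt_of_le_of_ne N.card_le_card_group fun e => hN1 (Subgroup.eq_top_of_card_eq N e)
      have h2 : Nat.card (G ⧸ N) < Nat.card G := by
        rw [Subgroup.card_eq_card_quotient_mul_card_subgroup N]
        exact lt_mul_of_one_lt_right Nat.card_pos Finite.one_lt_card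
      exact (Group.isSolvable_iff_subgroup_quotient N).mpr
        ⟨ih _ h1 rfl hp (h.subgroup N), ih _ h2 rfl hp (h.quotient hp N)⟩
    push Not at hN
    by_contra hns
    have hsimple : ∀ N : Subgroup G, N.Normal → N = ⊥ ∨ N = ⊤ := fun N hn =>
      (eq_or_ne N ⊥).imp_right fun h0 => hN N hn h0
    have hnab : ¬ ∀ a b : G, a * b = b * a := fun hab => hns (by
      letI : CommGroup G := { (inferInstance : Group G) with mul_comm := hab }
      infer_instance)
    have hne : (⊤ : Subgroup G) ≠ ⊥ := fun e => hnab fun a b => by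
      have ha : a = 1 := Subgroup.mem_bot.1 (e ▸ Subgroup.mem_top a)
      rw [ha, one_mul, mul_one]
    have hperf : commutator G = ⊤ := by
      refine (hsimple _ inferInstance).resolve_left fun e => hnab fun a b => ?_
      rw [← commutatorElement_eq_one_iff_mul_comm, ← Subgroup.mem_bot, ← e, commutator_def]
      exact Subgroup.commutator_mem_commutator (Subgroup.mem_top a) (Subgroup.mem_top b)
    have hcen : Subgroup.center G = ⊥ := by
      refine (hsimple _ inferInstance).resolve_right fun e => hnab fun a b => ?_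
      exact (Subgroup.mem_center_iff.1 (e ▸ Subgroup.mem_top b) a)
    have hdvd : p ∣ Nat.card G := by
      by_contra hnd
      obtain ⟨hc1, -⟩ := h ⊤ (by rw [Subgroup.card_top]; exact (hp.coprime_iff_not_dvd.2 hnd).symm)
      exact hnab fun a b => hc1 a (Subgroup.mem_top a) b (Subgroup.mem_top b)
    have h5 : 5 ≤ p := by
      by_contra hlt
      -- the only primes are `p` and `2`
      have hc0 : Nat.card G ≠ 0 := Nat.card_pos.ne'
      set a := (Nat.card G).factorization p
      set b := (Nat.card G / p ^ a).factorization 2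
      have hrest : ∀ r : ℕ, r.Prime → r ∣ Nat.card G → r = p ∨ r = 2 := by
        intro r hr hd
        by_cases hrp : r = p
        · exact Or.inl hrp
        refine Or.inr ?_
        have h1 := h.dvd_pred hp hr hrp hd
        have h2 := hp.two_le
        have h3 := Nat.le_of_dvd (by omega) h1
        have h4 := hr.two_le
        have h5 : p ≠ 4 := fun e => by norm_num [e] at hp
        omega
      have hm : ∃ b, Nat.card G / p ^ a = 2 ^ b := by
        have hm0 : Nat.card G / p ^ a ≠ 0 :=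
          (Nat.ordCompl_pos p hc0).ne'
        refine ⟨_, Nat.eq_prime_pow_of_unique_prime_dvd hm0 fun {r} hr hd => ?_⟩
        rcases hrest r hr (hd.trans (Nat.ordCompl_dvd _ p)) with rfl | rfl
        · exact absurd hd (Nat.not_dvd_ordCompl hr hc0)
        · rfl
      obtain ⟨e, he⟩ := hm
      refine hns (CfsgLib.CharTheory.isSolvable_of_card_two_primes hp Nat.prime_two (a := a) (b := e) ?_)
      rw [← he, Nat.ordProj_mul_ordCompl_eq_self]
    exact Setting.false (p := p)
      { hp := hp, five := h5, hyp := h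
        sol := fun X hX => ih _ (lt_of_le_of_ne X.card_le_card_group
          fun e => hX (Subgroup.eq_top_of_card_eq X e)) rfl hp (h.subgroup X)
        simple := hsimple, center := hcen, perfect := hperf, dvd := hdvd }

end CfsgLib.ExpPm1
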