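import Cfsg.Agent.Lib.ExpPm1.Owner
import Cfsg.Agent.Lib.Quadratic.Consequences
import Cfsg.Agent.Lib.Quadratic.Stable
import Cfsg.Agent.Lib.StrongFusion.LocalFree
import Cfsg.Agent.Lib.ZJ.Theorem
import Cfsg.Agent.Lib.ZJ.Center
import Cfsg.Agent.S0118

/-!
`Z(J)` for the hypothesis: abelian Sylow 2-subgroups exclude `SL₂(p)`.
-/

set_option autoImplicit false
set_option linter.unusedSectionVars false

namespace CfsgLib.ExpPm1

open Cfsg
open scoped commutatorElement Pointwise

universe u
variable {G : Type u} [Group G] {p : ℕ}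

theorem Hyp.no_sl2 [Finite G] (hp : p.Prime) (h5 : 5 ≤ p) (h : Hyp p G) (K : Subgroup G)
    (f : K →* Matrix.SpecialLinearGroup (Fin 2) (ZMod p)) (hf : Function.Surjective f) : False := by
  haveI := Fact.mk hp
  haveI : Fact (Nat.Prime 2) := ⟨Nat.prime_two⟩
  let T : Sylow 2 (⊤ : Subgroup G) := default
  have hc := ((h.subgroup ⊤) (T : Subgroup (⊤ : Subgroup G)) (coprime_of_isPGroup hp Nat.prime_two (by omega) T.2)).1
  exact CfsgLib.Quadratic.no_sl2_of_isMulCommutative (by omega) T
    ⟨⟨fun a b => Subtype.ext (hc _ a.2 _ b.2)⟩⟩ le_top f hf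

theorem Hyp.no_sl2_section [Finite G] (hp : p.Prime) (h5 : 5 ≤ p) (h : Hyp p G) :
    ¬ ∃ (H K : Subgroup G) (hK : (K.subgroupOf H).Normal),
      Nonempty ((H ⧸ K.subgroupOf H) ≃* Matrix.SpecialLinearGroup (Fin 2) (ZMod p)) := by
  rintro ⟨H, K, hK, ⟨e⟩⟩
  exact h.no_sl2 hp h5 H (e.toMonoidHom.comp (QuotientGroup.mk' _))
    (e.surjective.comp (QuotientGroup.mk'_surjective _))

theorem Hyp.quadStable [Finite G] (hp : p.Prime) (h5 : 5 ≤ p) (h : Hyp p G) : ZJ.QuadStable p G := by
  haveI := Fact.mk hp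
  refine CfsgLib.Quadratic.quadStable_of_isNormalizerPStable
    (CfsgLib.Quadratic.isNormalizerPStable_of_free (by omega) fun hq => ?_)
  obtain ⟨H, K, hK, he⟩ := CfsgLib.StrongFusion.involves_sl2_of_involves_qd hq
  exact h.no_sl2_section hp h5 ⟨H, K, hK, he⟩

/-- `G = O_{p'}(G) N(Z(J(S)))` in the solvable case. -/
theorem Hyp.zj_frattini [Finite G] [Group.IsSolvable G] (hp : p.Prime) (h5 : 5 ≤ p) (h : Hyp p G)
    [Fact p.Prime] (S : Sylow p G) :
    pPrimeCore p G ⊔ Subgroup.normalizer (ZJ.zj p (S : Subgroup G) : Set G) = ⊤ := by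
  set K := pPrimeCore p G with hK
  haveI : K.Normal := Subgroup.sSup_normal _ (fun _ h => h.1)
  set π := QuotientGroup.mk' K with hπ
  have hπs : Function.Surjective π := QuotientGroup.mk'_surjective K
  have hinj : Set.InjOn π ((S : Subgroup G) : Set G) := by
    intro x hx y hy hxy
    refine inv_mul_eq_one.1 (eq_one_of_isPEl_of_isPreg hp (isPEl_of_mem S.2 (mul_mem (inv_mem hx) hy)) ?_)
    exact isPreg_of_mem hp (CfsgLib.card_pPrimeCore_coprime p) (QuotientGroup.eq.1 hxy)
  haveI : Group.IsSolvable (G ⧸ K) := Group.isSolvable_of_surjective hπs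
  have hZ := CfsgLib.ZJ.zj_normal (by omega) (Or.inr rfl)
    (CfsgLib.centralizer_pCore_le hp (CfsgLib.pPrimeCore_quotient_eq_bot p))
    ((h.quotient hp K).quadStable hp h5) (S.mapSurjective hπs)
  rw [show ((S.mapSurjective hπs : Sylow p (G ⧸ K)) : Subgroup (G ⧸ K)) = (S : Subgroup G).map π from rfl,
    CfsgLib.ZJ.zj_map_of_injOn p π _ hinj] at hZ
  haveI := hZ
  set Z := ZJ.zj p (S : Subgroup G) with hZdef
  have hN : (Z ⊔ K).Normal := by
    have h2 : (Z.map π).comap π = Z ⊔ K := by
      rw [Subgroup.comap_map_eq, hπ, QuotientGroup.ker_mk']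
    rw [← h2]
    exact Subgroup.normal_comap π
  haveI := hN
  set N := Z ⊔ K with hNdef
  have hZN : Z ≤ N := le_sup_left
  have hidx : ¬ p ∣ (Z.subgroupOf N).index := by
    intro hd
    change p ∣ Z.relIndex N at hd
    have h1 : Nat.card Z * Z.relIndex N ∣ Nat.card Z * Nat.card K := by
      rw [CfsgLib.Products.card_mul_relIndex_of_le hZN]
      exact CfsgLib.card_sup_dvd_mul Z K
    exact CfsgLib.not_dvd_card_pPrimeCore hp (hd.trans (Nat.dvd_of_mul_dvd_mul_left Nat.card_pos h1))
  set T : Sylow p N := ((S.2.to_le (ZJ.zj_le p _)).comap_subtype (K := N)).toSylow hidx with hT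
  have hfr := T.normalizer_sup_eq_top
  rw [show (T : Subgroup N).map N.subtype = Z from Subgroup.map_subgroupOf_eq_of_le hZN] at hfr
  exact top_le_iff.1 (hfr ▸ sup_le le_sup_right (sup_le (Subgroup.le_normalizer.trans le_sup_right) le_sup_left))

/-- In a solvable group a Sylow `p`-subgroup inside the derived group is normal. -/
theorem Hyp.sylow_normal_of_le_commutator [Finite G] [Group.IsSolvable G] (hp : p.Prime) (h : Hyp p G)
    [Fact p.Prime] (S : Sylow p G) (hS : (S : Subgroup G) ≤ commutator G) : (S : Subgroup G).Normal := by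
  obtain ⟨H, -, hH⟩ := exists_hallIn (G := G) hp (X := ⊤) (K := ⊥)
    (Group.isSolvable_of_isSolvable_injective (f := (⊤ : Subgroup G).subtype) (Subgroup.subtype_injective _))
    le_top (by simp)
  obtain ⟨-, hHc, hHi⟩ := hH
  simp only [Subgroup.relIndex_top_right] at hHi
  obtain ⟨hLn, -, -⟩ := hall_sup_pCore hp hHc hHi (h H hHc).1
  haveI := hLn
  set L := H ⊔ pCore p G with hL
  set π := QuotientGroup.mk' L with hπ
  have hπs : Function.Surjective π := QuotientGroup.mk'_surjective L
  have hLtop : L = ⊤ := by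
    by_contra hne
    haveI : Nontrivial (G ⧸ L) := QuotientGroup.nontrivial_iff.2 hne
    haveI : Group.IsSolvable (G ⧸ L) := Group.isSolvable_of_surjective hπs
    refine (Group.IsSolvable.commutator_lt_top_of_nontrivial (G ⧸ L)).ne (top_le_iff.1 ?_)
    have hSL : (S : Subgroup G) ⊔ L = ⊤ := by
      rw [← Subgroup.index_eq_one]
      by_contra h1
      obtain ⟨q, hq, hqd⟩ := Nat.exists_prime_and_dvd h1
      have := hHi q hq (hqd.trans (Subgroup.index_dvd_of_le (le_sup_left.trans le_sup_right)))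
      subst this
      exact S.not_dvd_index (hqd.trans (Subgroup.index_dvd_of_le le_sup_left))
    calc (⊤ : Subgroup (G ⧸ L)) = ((S : Subgroup G) ⊔ L).map π := by
          rw [hSL, ← MonoidHom.range_eq_map, MonoidHom.range_eq_top.2 hπs]
      _ = (S : Subgroup G).map π := by
          rw [Subgroup.map_sup, sup_eq_left]
          rintro _ ⟨y, hy, rfl⟩
          rw [show π y = 1 from (QuotientGroup.eq_one_iff y).2 hy]
          exact one_mem _
      _ ≤ (commutator G).map π := Subgroup.map_mono hS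
      _ ≤ commutator (G ⧸ L) := by
          rw [commutator_def, commutator_def, Subgroup.map_commutator]
          exact Subgroup.commutator_mono le_top le_top
  have hd : Nat.card (S : Subgroup G) ∣ Nat.card (pCore p G) := by
    have h1 : Nat.card G ∣ Nat.card H * Nat.card (pCore p G) := by
      rw [← Subgroup.card_top (G := G), ← hLtop]
      exact CfsgLib.card_sup_dvd_mul _ _
    refine Nat.Coprime.dvd_of_dvd_mul_left ?_ ((Subgroup.card_subgroup_dvd_card _).trans h1)
    obtain ⟨a, ha⟩ := S.2.exists_card_eq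
    rw [ha]
    exact hHc.symm.pow_left a
  rw [← Subgroup.eq_of_le_of_card_ge (CfsgLib.pCore_le_sylow S) (Nat.le_of_dvd Nat.card_pos hd)]
  infer_instance

theorem Hyp.le_normalizer_of_le_commutator [Finite G] (hp : p.Prime) (h : Hyp p G) {X : Subgroup G}
    (hX : Group.IsSolvable X) [Fact p.Prime] (P : Sylow p G) (hPX : (P : Subgroup G) ≤ X)
    (hP : (P : Subgroup G) ≤ ⁅X, X⁆) : X ≤ Subgroup.normalizer ((P : Subgroup G) : Set G) := by
  haveI := hX
  have := (h.subgroup X).sylow_normal_of_le_commutator hp (P.subtype hPX) (by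
    rw [← Subgroup.map_subtype_le_map_subtype, Subgroup.map_subtype_commutator, Sylow.coe_subtype,
      Subgroup.map_subgroupOf_eq_of_le hPX]
    exact hP)
  rw [← Subgroup.normal_subgroupOf_iff_le_normalizer hPX]
  exact this

/-- Fusion in a Sylow `p`-subgroup is controlled by `N(P) = N(Z(J(P)))`. -/
theorem Setting.sylow_facts [Finite G] (hS : Setting p G) [Fact p.Prime] (P : Sylow p G) :
    (P : Subgroup G) ≤ ⁅Subgroup.normalizer ((P : Subgroup G) : Set G),
      Subgroup.normalizer ((P : Subgroup G) : Set G)⁆ ∧ (P : Subgroup G) ≠ ⊥ := by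
  have hPne : (P : Subgroup G) ≠ ⊥ := P.ne_bot_of_dvd_card hS.dvd
  refine ⟨?_, hPne⟩
  set X := Subgroup.normalizer (centerThompsonOf p (P : Subgroup G) : Set G) with hX
  have hp2 : p ≠ 2 := by have := hS.five; omega
  have hc : ∀ x ∈ (P : Subgroup G), ∀ g : G, g * x * g⁻¹ ∈ (P : Subgroup G) →
      ∃ n ∈ X, n * x * n⁻¹ = g * x * g⁻¹ := by
    intro x hx g hg
    obtain ⟨n, hn, hne⟩ := Cfsg.Agent.S0118.result hp2 (hS.hyp.no_sl2_section hS.hp hS.five) P {x}
      (Set.singleton_subset_iff.2 hx) g⁻¹ (by rintro _ ⟨a, rfl, rfl⟩; rw [inv_inv]; exact hg)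
    exact ⟨n⁻¹, inv_mem hn, by simpa using hne x rfl⟩
  have hNX : Subgroup.normalizer ((P : Subgroup G) : Set G) ≤ X := by
    rw [hX, ← ZJ.zj_prime]; exact ZJ.normalizer_le_normalizer_zj p _
  have hPX : (P : Subgroup G) ≤ X := Subgroup.le_normalizer.trans hNX
  have hfoc : (P : Subgroup G) ≤ ⁅X, X⁆ := by
    intro a ha
    have h1 : a ∈ commutator G ⊓ (P : Subgroup G) := ⟨hS.perfect ▸ Subgroup.mem_top a, ha⟩
    rw [CfsgLib.TransferApps.commutator_inf_sylow_eq_of_control P X hc hPX] at h1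
    exact h1.1
  have hXt : X ≠ ⊤ := by
    rw [hX, ← ZJ.zj_prime]
    exact hS.normalizer_ne_top (ZJ.zj_ne_bot (Or.inr rfl) P.2 hPne)
      (hS.ne_top_of_isPGroup (P.2.to_le (ZJ.zj_le p _)))
  have := le_antisymm (hS.hyp.le_normalizer_of_le_commutator hS.hp (hS.sol X hXt) P hPX hfoc) hNX
  rw [← this]
  exact hfoc

theorem Setting.two_mul_card_le [Finite G] (hS : Setting p G) [Fact p.Prime] (P : Sylow p G) :
    2 * Nat.card (P : Subgroup G) ≤ Nat.card (Subgroup.normalizer ((P : Subgroup G) : Set G)) := by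
  set N := Subgroup.normalizer ((P : Subgroup G) : Set G) with hN
  obtain ⟨hPN, hne⟩ := hS.sylow_facts P
  have hlt : (P : Subgroup G).relIndex N ≠ 1 := by
    intro h1
    have hNP : N ≤ (P : Subgroup G) := Subgroup.relIndex_eq_one.1 h1
    haveI := P.2.isNilpotent
    haveI : Nontrivial (P : Subgroup G) := (Subgroup.nontrivial_iff_ne_bot _).2 hne
    have h2 : commutator (P : Subgroup G) = ⊤ := by
      rw [eq_top_iff, ← Subgroup.map_subtype_le_map_subtype, Subgroup.map_subtype_commutator,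
        ← MonoidHom.range_eq_map, Subgroup.range_subtype]
      exact hPN.trans (Subgroup.commutator_mono hNP hNP)
    exact (Group.IsSolvable.commutator_lt_top_of_nontrivial (P : Subgroup G)).ne h2
  rw [← CfsgLib.Products.card_mul_relIndex_of_le (Subgroup.le_normalizer : (P : Subgroup G) ≤ N), mul_comm 2]
  refine Nat.mul_le_mul_left _ ?_
  have h0 : (P : Subgroup G).relIndex N ≠ 0 := Subgroup.index_ne_zero_of_finite
  rcases h : (P : Subgroup G).relIndex N with _ | _ | n
  · exact absurd h h0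
  · exact absurd h hlt
  · omega

end CfsgLib.ExpPm1
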