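import Cfsg.Agent.Lib.ExpPm1.Sylow
import Cfsg.Agent.Lib.CoprimeGen

/-!
The maximal subgroups owning the elements of order prime to `p`.
-/

set_option autoImplicit false
set_option linter.unusedSectionVars false

namespace CfsgLib.ExpPm1

open Cfsg
open scoped commutatorElement Pointwise

universe u
variable {G : Type u} [Group G] {p r : ℕ} {M : Subgroup G}

/-- Elements of order `r` of `M` are fused only inside `M`. -/
def UF (r : ℕ) (M : Subgroup G) : Prop :=
  ∀ v ∈ M, orderOf v = r → ∀ g : G, g * v * g⁻¹ ∈ M → g ∈ M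

theorem UF.centralizer_le (hU : UF r M) {v : G} (hv : v ∈ M) (ho : orderOf v = r) :
    Subgroup.centralizer ({v} : Set G) ≤ M := fun g hg =>
  hU v hv ho g (by rwa [Subgroup.mem_centralizer_singleton_iff.1 hg, mul_inv_cancel_right])

theorem UF.centralizer_le' (hU : UF r M) (hr : r.Prime) {v : G} (hv : v ∈ M) (hr1 : v ^ r = 1) (hv1 : v ≠ 1) :
    Subgroup.centralizer ({v} : Set G) ≤ M := by
  haveI := Fact.mk hr
  exact hU.centralizer_le hv (orderOf_eq_prime hr1 hv1)

theorem UF.normalizer_le (hU : UF r M) {V : Subgroup G} (hVM : V ≤ M) {v : G} (hv : v ∈ V)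
    (ho : orderOf v = r) : Subgroup.normalizer (V : Set G) ≤ M := fun g hg =>
  hU v (hVM hv) ho g (hVM ((Subgroup.mem_normalizer_iff.1 hg v).1 hv))

theorem UF.conj (hU : UF r M) (g : G) : UF r (MulAut.conj g • M) := by
  intro v hv ho y hy
  rw [CfsgLib.mem_conj_smul_iff] at hv hy ⊢
  refine hU (g⁻¹ * v * g) hv (by rw [← ho]; simpa using (MulAut.conj g⁻¹).orderOf_eq v) _ ?_
  have : (g⁻¹ * y * g) * (g⁻¹ * v * g) * (g⁻¹ * y * g)⁻¹ = g⁻¹ * (y * v * y⁻¹) * g := by group
  rwa [this]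

/-- **L4.** A proper subgroup sharing a noncyclic elementary abelian `r`-subgroup with `M` lies in `M`. -/
theorem Setting.le_of_noncyclic [Finite G] (hS : Setting p G) (hr : r.Prime) (hrp : r ≠ p) (hU : UF r M)
    {X : Subgroup G} (hX : X ≠ ⊤) {V : Subgroup G} (hV : ¬ IsCyclic V) (hVX : V ≤ X) (hVM : V ≤ M)
    (hVr : ∀ v ∈ V, v ^ r = 1) : X ≤ M := by
  haveI := Fact.mk hr
  haveI := Fact.mk hS.hp
  have hVp : IsPGroup r V := fun v => ⟨1, Subtype.ext (by simpa using hVr v v.2)⟩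
  have hVc : (Nat.card V).Coprime p := coprime_of_isPGroup hS.hp hr hrp hVp
  obtain ⟨hcomm, -⟩ := hS.hyp V hVc
  haveI : IsMulCommutative V := ⟨⟨fun a b => Subtype.ext (hcomm a a.2 b b.2)⟩⟩
  obtain ⟨H, hVH, hH⟩ := exists_hallIn hS.hp (hS.sol X hX) hVX hVc
  have hHc := (hS.hyp H hH.2.1).1
  refine (exists_mul_of_hall hS.hp (hS.sol X hX) hH hHc).trans (sup_le ?_ ?_)
  · have hcop : (Nat.card V).Coprime (Nat.card (opIn p X)) := by
      obtain ⟨a, ha⟩ := hVp.exists_card_eq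
      obtain ⟨b, hb⟩ := (isPGroup_opIn (p := p) X).exists_card_eq
      rw [ha, hb]
      exact ((Nat.coprime_primes hr hS.hp).2 hrp).pow a b
    rw [← CfsgLib.coprime_generated_by_centralizers hV (hVX.trans (le_normalizer_opIn X)) hcop]
    exact iSup₂_le fun a ha => inf_le_right.trans (hU.centralizer_le' hr (hVM ha.1) (hVr a ha.1) ha.2)
  · rintro g ⟨-, hg⟩
    obtain ⟨v, hv1⟩ := Subgroup.ne_bot_iff_exists_ne_one.1 (fun h : V = ⊥ => hV (by rw [h]; infer_instance))
    have hv1' : (v : G) ≠ 1 := fun e => hv1 (Subtype.ext e)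
    refine hU v (hVM v.2) (orderOf_eq_prime (hVr v v.2) hv1') g ?_
    have h1 : g * v * g⁻¹ ∈ H := (Subgroup.mem_normalizer_iff.1 hg _).1 (hVH v.2)
    exact hU.centralizer_le' hr (hVM v.2) (hVr v v.2) hv1'
      (Subgroup.mem_centralizer_singleton_iff.2 (hHc _ h1 _ (hVH v.2)))

theorem opIn_conj [Finite G] {X X' : Subgroup G} {g : G} (h : ∀ x, x ∈ X ↔ g * x * g⁻¹ ∈ X') {y : G}
    (hy : y ∈ opIn p X) : g * y * g⁻¹ ∈ opIn p X' := by
  refine le_opIn (U := (opIn p X).map (MulAut.conj g).toMonoidHom) ?_ ((isPGroup_opIn X).map _) ?_ ⟨y, hy, rfl⟩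
  · rintro _ ⟨z, hz, rfl⟩
    exact (h z).1 (opIn_le X hz)
  · intro x hx
    have hx' : g⁻¹ * x * g ∈ X := (h _).2 (by simpa [mul_assoc] using hx)
    have hn := Subgroup.mem_normalizer_iff.1 (le_normalizer_opIn (p := p) X hx')
    refine CfsgLib.Comp.mem_normalizer_of_maps ?_
    rintro _ ⟨z, hz, rfl⟩
    exact ⟨_, (hn z).1 hz, by simp [mul_assoc]⟩

/-- The signalizer functor `a ↦ O_p(C(a))`. -/
def theta (p : ℕ) (a : G) : Subgroup G := opIn p (Subgroup.centralizer ({a} : Set G))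

theorem theta_conj [Finite G] {a g y : G} (hy : y ∈ theta p a) : g * y * g⁻¹ ∈ theta p (g * a * g⁻¹) :=
  opIn_conj (fun x => by
    simp only [Subgroup.mem_centralizer_singleton_iff]
    constructor
    · intro h
      calc g * x * g⁻¹ * (g * a * g⁻¹) = g * (x * a) * g⁻¹ := by group
        _ = g * (a * x) * g⁻¹ := by rw [h]
        _ = g * a * g⁻¹ * (g * x * g⁻¹) := by group
    · intro h
      calc x * a = g⁻¹ * ((g * x * g⁻¹) * (g * a * g⁻¹)) * g := by group
        _ = g⁻¹ * ((g * a * g⁻¹) * (g * x * g⁻¹)) * g := by rw [h]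
        _ = a * x := by group) hy

/-- For each prime `r ≠ p` there is a maximal subgroup containing a Sylow `r`-subgroup and its normaliser
in which elements of order `r` are fused only inside. -/
theorem Setting.exists_uf [Finite G] (hS : Setting p G) [Fact r.Prime] (hrp : r ≠ p) (hd : r ∣ Nat.card G) :
    ∃ M : Subgroup G, IsCoatom M ∧ UF r M ∧ ∃ R : Sylow r G, (R : Subgroup G) ≤ M := by
  classical
  haveI := Fact.mk hS.hp
  have hr := (Fact.out : r.Prime)
  obtain ⟨R⟩ := (inferInstance : Nonempty (Sylow r G))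
  have hcomm : ∀ a ∈ (R : Subgroup G), ∀ b ∈ (R : Subgroup G), a * b = b * a :=
    fun a ha b hb => hS.commute_in_sylow hrp R ha hb
  set A := omega1 r (R : Subgroup G) with hA
  have hAR : A ≤ (R : Subgroup G) := omega1_le r _
  have hAe : IsElementaryAbelian r A := isElementaryAbelian_omega1 hcomm
  have hRC : ∀ a ∈ A, (R : Subgroup G) ≤ Subgroup.centralizer ({a} : Set G) := fun a ha x hx =>
    Subgroup.mem_centralizer_singleton_iff.2 (hcomm x hx a (hAR ha))
  have hθ : IsSolvableSignalizerFunctor r A (theta p) := by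
    refine ⟨⟨fun a _ _ => opIn_le _, fun a _ _ hdv => ?_, fun a ha _ b hb x hx => ?_, ?_⟩, fun a _ ha1 => ?_⟩
    · obtain ⟨e, he⟩ := (isPGroup_opIn (p := p) (Subgroup.centralizer ({a} : Set G))).exists_card_eq
      rw [theta, he] at hdv
      exact hrp ((Nat.prime_dvd_prime_iff_eq hr hS.hp).1 (hr.dvd_of_dvd_pow hdv))
    · have hbC : b ∈ Subgroup.centralizer ({a} : Set G) := hRC a ha (hAR hb)
      exact (Subgroup.mem_normalizer_iff.1 (le_normalizer_opIn _ hbC) x).1 hx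
    · intro a ha ha1 b hb hb1
      set X := Subgroup.centralizer ({b} : Set G) with hX
      have hXs := hS.sol X (hS.centralizer_ne_top hb1)
      have haX : Subgroup.zpowers a ≤ X := Subgroup.zpowers_le.2 (hRC b hb (hAR ha))
      obtain ⟨H, haH, hH⟩ := exists_hallIn hS.hp hXs haX ((isPreg_of_prime_ne hS.hp hr hrp
        ⟨1, by simpa using hAe.2 a ha⟩).coprime_zpowers hS.hp)
      have hHc := (hS.hyp H hH.2.1).1
      have hHa : H ≤ Subgroup.centralizer ({a} : Set G) := fun h hh =>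
        Subgroup.mem_centralizer_singleton_iff.2 (hHc h hh a (haH (Subgroup.mem_zpowers a)))
      refine le_opIn_of_hall hS.hp hXs hH hHc inf_le_right ((isPGroup_opIn _).to_le inf_le_left) ?_
      intro h hh
      refine CfsgLib.Comp.mem_normalizer_of_maps ?_
      rintro y ⟨hy1, hy2⟩
      exact ⟨(Subgroup.mem_normalizer_iff.1 (le_normalizer_opIn _ (hHa hh)) y).1 hy1,
        show h * y * h⁻¹ ∈ X from mul_mem (mul_mem (hH.1 hh) hy2) (inv_mem (hH.1 hh))⟩
    · haveI : Group.IsNilpotent (theta p a) :=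
        (isPGroup_opIn (p := p) (Subgroup.centralizer ({a} : Set G))).isNilpotent
      infer_instance
  obtain ⟨-, X, -, hXr, hXeq⟩ := Signalizer.complete_of_qGroups hAe (hS.card_omega1 hrp hd R) hθ
    (q := p) (fun a _ _ => isPGroup_opIn _)
  set W := signalizerClosure A (theta p) with hW
  have hWX : W ≤ X := iSup_le fun a => by
    rw [← hXeq _ a.2.1 a.2.2]; exact inf_le_left
  have hWtop : W ≠ ⊤ := fun h => hXr <| by
    rw [top_le_iff.1 (h.ge.trans hWX), Subgroup.card_top]; exact hd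
  set NR := Subgroup.normalizer ((R : Subgroup G) : Set G) with hNR
  have hNW : NR ≤ Subgroup.normalizer (W : Set G) := by
    intro g hg
    refine CfsgLib.Comp.mem_normalizer_of_maps fun y hy => ?_
    have hle : W ≤ W.comap (MulAut.conj g).toMonoidHom := iSup_le fun ⟨a, ha, ha1⟩ z hz => by
      refine le_iSup (fun x : {a : G // a ∈ A ∧ a ≠ 1} => theta p (x : G))
        ⟨g * a * g⁻¹, omega1_conj (fun x hx => (Subgroup.mem_normalizer_iff.1 hg x).1 hx) ha,
          by simpa using ha1⟩ ?_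
      exact theta_conj hz
    exact hle hy
  obtain ⟨M0, hM0t, hNM0, hθM0⟩ : ∃ M0 : Subgroup G, M0 ≠ ⊤ ∧ NR ≤ M0 ∧ W ≤ M0 := by
    by_cases hWb : W = ⊥
    · exact ⟨NR, hS.normalizer_ne_top (R.ne_bot_of_dvd_card hd) (hS.ne_top_of_isPGroup R.2), le_rfl,
        hWb ▸ bot_le⟩
    · exact ⟨_, hS.normalizer_ne_top hWb hWtop, hNW, Subgroup.le_normalizer⟩
  obtain ⟨M, hM, hM0M⟩ := (eq_top_or_exists_le_coatom M0).resolve_left hM0t
  have hNRM : NR ≤ M := hNM0.trans hM0M
  have hRM : (R : Subgroup G) ≤ M := Subgroup.le_normalizer.trans hNRM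
  have hCM : ∀ a ∈ A, a ≠ 1 → Subgroup.centralizer ({a} : Set G) ≤ M := by
    intro a ha ha1
    set X := Subgroup.centralizer ({a} : Set G) with hX
    have hXs := hS.sol X (hS.centralizer_ne_top ha1)
    obtain ⟨H, hRH, hH⟩ := exists_hallIn hS.hp hXs (hRC a ha) (coprime_of_isPGroup hS.hp hr hrp R.2)
    have hHc := (hS.hyp H hH.2.1).1
    refine (exists_mul_of_hall hS.hp hXs hH hHc).trans (sup_le ?_ ?_)
    · exact ((le_iSup (fun x : {a : G // a ∈ A ∧ a ≠ 1} => theta p (x : G)) ⟨a, ha, ha1⟩).trans hθM0).trans hM0M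
    · rintro g ⟨-, hg⟩
      refine hNRM (CfsgLib.Comp.mem_normalizer_of_maps fun y hy => ?_)
      have h1 : ∀ x ∈ (R : Subgroup G), g * x * g⁻¹ ∈ H := fun x hx =>
        (Subgroup.mem_normalizer_iff.1 hg x).1 (hRH hx)
      set K := (R : Subgroup G) ⊔ Subgroup.zpowers (g * y * g⁻¹) with hK
      have hgy : g * y * g⁻¹ ∈ Subgroup.normalizer ((R : Subgroup G) : Set G) := by
        refine CfsgLib.Comp.mem_normalizer_of_maps fun x hx => ?_
        rw [hHc _ (h1 y hy) x (hRH hx), mul_inv_cancel_right]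
        exact hx
      have hKp : IsPGroup r K := IsPGroup.to_sup_of_normal_left' R.2
        ((isPEl_of_mem R.2 hy).conj g).isPGroup_zpowers (Subgroup.zpowers_le.2 hgy)
      rw [← R.is_maximal' hKp le_sup_left]
      exact Subgroup.mem_sup_right (Subgroup.mem_zpowers _)
  refine ⟨M, hM, fun v hv ho g hgv => ?_, R, hRM⟩
  -- fusion: move both elements into `R` inside `M`
  have hmove : ∀ w ∈ M, orderOf w = r → ∃ m ∈ M, m * w * m⁻¹ ∈ (R : Subgroup G) := by
    intro w hw how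
    have hwp : IsPGroup r (Subgroup.zpowers (⟨w, hw⟩ : M)) := IsPEl.isPGroup_zpowers
      ⟨1, Subtype.ext (by rw [pow_one]; simpa [how] using pow_orderOf_eq_one w)⟩
    obtain ⟨Q, hQ⟩ := hwp.exists_le_sylow
    obtain ⟨m, hm⟩ := MulAction.exists_smul_eq M Q (R.subtype hRM)
    refine ⟨m, m.2, ?_⟩
    have : m * ⟨w, hw⟩ * m⁻¹ ∈ ((m • Q : Sylow r M) : Subgroup M) := by
      rw [Sylow.coe_subgroup_smul, CfsgLib.mem_conj_smul_iff]
      simpa [mul_assoc] using hQ (Subgroup.mem_zpowers _)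
    rw [hm] at this
    exact this
  obtain ⟨m, hm, hmv⟩ := hmove v hv ho
  have how : orderOf (g * v * g⁻¹) = r := by rw [← MulAut.conj_apply, MulEquiv.orderOf_eq, ho]
  obtain ⟨n, hn, hnw⟩ := hmove _ hgv how
  set a := m * v * m⁻¹ with ha
  have e : (n * g * m⁻¹) * a * (n * g * m⁻¹)⁻¹ = n * (g * v * g⁻¹) * n⁻¹ := by rw [ha]; group
  obtain ⟨k, hk, hke⟩ := CfsgLib.TransferApps.exists_normalizer_conj_of_abelian R
    ⟨⟨fun a b => Subtype.ext (hcomm a a.2 b b.2)⟩⟩ hmv (g := n * g * m⁻¹) (by rwa [e])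
  have haA : a ∈ A := (mem_omega1_iff hcomm).2 ⟨hmv, by
    rw [ha, conj_pow, ← ho, pow_orderOf_eq_one]; simp⟩
  have ha1 : a ≠ 1 := fun h => hr.ne_one <| by
    rw [← ho, orderOf_eq_one_iff]
    rw [ha, mul_inv_eq_one, mul_eq_left] at h
    exact h
  have hc : k⁻¹ * (n * g * m⁻¹) ∈ M := by
    refine hCM a haA ha1 (Subgroup.mem_centralizer_singleton_iff.2 ?_)
    have : k * a * k⁻¹ = (n * g * m⁻¹) * a * (n * g * m⁻¹)⁻¹ := hke
    calc k⁻¹ * (n * g * m⁻¹) * a = k⁻¹ * ((n * g * m⁻¹) * a * (n * g * m⁻¹)⁻¹) * (n * g * m⁻¹) := by group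
      _ = k⁻¹ * (k * a * k⁻¹) * (n * g * m⁻¹) := by rw [this]
      _ = a * (k⁻¹ * (n * g * m⁻¹)) := by group
  have h2 : n * g * m⁻¹ ∈ M := by simpa using mul_mem (hNRM hk) hc
  simpa [mul_assoc] using mul_mem (mul_mem (inv_mem hn) h2) hm

/-- A maximal subgroup owning every prime other than `p` dividing its order. -/
def Good (p : ℕ) (M : Subgroup G) : Prop :=
  IsCoatom M ∧ ∀ r : ℕ, r.Prime → r ≠ p → r ∣ Nat.card M → UF r M ∧ ∃ R : Sylow r G, (R : Subgroup G) ≤ M

theorem Setting.exists_good [Finite G] (hS : Setting p G) (hr : r.Prime) (hrp : r ≠ p)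
    (hd : r ∣ Nat.card G) : ∃ M : Subgroup G, Good p M ∧ r ∣ Nat.card M := by
  haveI := Fact.mk hr
  obtain ⟨M, hM, hU, R, hRM⟩ := hS.exists_uf hrp hd
  refine ⟨M, ⟨hM, fun q hq hqp hqd => ?_⟩, ((R.dvd_card_of_dvd_card hd)).trans (Subgroup.card_dvd_of_le hRM)⟩
  haveI := Fact.mk hq
  rcases eq_or_ne q r with rfl | hqr
  · exact ⟨hU, R, hRM⟩
  have hqG : q ∣ Nat.card G := hqd.trans (Subgroup.card_subgroup_dvd_card M)
  obtain ⟨M', hM', hU', R', hR'M'⟩ := hS.exists_uf hqp hqG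
  obtain ⟨y, hy⟩ := exists_prime_orderOf_dvd_card' (G := M) q hqd
  have hy' : orderOf (y : G) = q := by rw [Subgroup.orderOf_coe, hy]
  -- move `M'` so that it contains `y`
  have hyp : IsPGroup q (Subgroup.zpowers (y : G)) :=
    IsPEl.isPGroup_zpowers ⟨1, by rw [pow_one, ← hy', pow_orderOf_eq_one]⟩
  obtain ⟨Q, hQ⟩ := hyp.exists_le_sylow
  obtain ⟨g, hg⟩ := MulAction.exists_smul_eq G R' Q
  set M'' := MulAut.conj g • M' with hM''
  have hQM : (Q : Subgroup G) ≤ M'' := by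
    rw [← hg, Sylow.coe_subgroup_smul, hM'', Subgroup.pointwise_smul_le_pointwise_smul_iff]
    exact hR'M'
  have hyM'' : (y : G) ∈ M'' := hQM (hQ (Subgroup.mem_zpowers _))
  -- a Sylow `r`-subgroup commuting with `y` inside `M`
  haveI := Fact.mk hS.hp
  obtain ⟨H, hyH, hH⟩ := exists_hallIn hS.hp (hS.sol M hM.1) (Subgroup.zpowers_le.2 y.2)
    ((isPreg_of_prime_ne hS.hp hq hqp ⟨1, by rw [pow_one, ← hy', pow_orderOf_eq_one]⟩).coprime_zpowers hS.hp)
  have hHc := (hS.hyp H hH.2.1).1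
  obtain ⟨R₁⟩ := (inferInstance : Nonempty (Sylow r H))
  set R₂ := (R₁ : Subgroup H).map H.subtype with hR₂
  have hR₂p : IsPGroup r R₂ := R₁.2.map _
  have hidx : ¬ r ∣ R₂.index := by
    intro hd'
    rw [← Subgroup.relIndex_mul_index (Subgroup.map_subtype_le (R₁ : Subgroup H) : R₂ ≤ H),
      ← Subgroup.relIndex_mul_index hH.1, hr.dvd_mul, hr.dvd_mul] at hd'
    rcases hd' with h | h | h
    · refine R₁.not_dvd_index ?_
      rwa [Subgroup.relIndex, Subgroup.subgroupOf,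
        Subgroup.comap_map_eq_self_of_injective H.subtype_injective] at h
    · exact hrp (hH.2.2 r hr h)
    · exact R.not_dvd_index (h.trans (Subgroup.index_dvd_of_le hRM))
  set S := hR₂p.toSylow hidx with hSdef
  have hSH : (S : Subgroup G) ≤ H := Subgroup.map_subtype_le _
  have hSM : (S : Subgroup G) ≤ M'' := fun x hx =>
    (hU'.conj g).centralizer_le hyM'' hy'
      (Subgroup.mem_centralizer_singleton_iff.2 (hHc x (hSH hx) y (hyH (Subgroup.mem_zpowers _))))
  have hM''t : M'' ≠ ⊤ := fun h => hM'.1 (by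
    rw [hM''] at h
    rw [eq_top_iff]
    intro x _
    have := h ▸ Subgroup.mem_top (g * x * g⁻¹)
    simpa [CfsgLib.mem_conj_smul_iff, mul_assoc] using this)
  have hM''M : M'' ≤ M := hS.le_of_noncyclic hr hrp hU hM''t (hS.not_isCyclic_omega1 hrp hd S)
    ((omega1_le r _).trans hSM) ((omega1_le r _).trans (hSH.trans hH.1))
    (fun v hv => ((mem_omega1_iff fun a ha b hb => hS.commute_in_sylow hrp S ha hb).1 hv).2)
  have hM''c : IsCoatom M'' := by
    refine ⟨hM''t, fun b hb => ?_⟩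
    have h1 : M' < MulAut.conj g⁻¹ • b := by
      rw [show M' = MulAut.conj g⁻¹ • M'' by rw [hM'', smul_smul, ← map_mul, inv_mul_cancel, map_one, one_smul]]
      exact lt_of_le_of_ne (Subgroup.pointwise_smul_le_pointwise_smul_iff.2 hb.le)
        fun e => hb.ne (MulAction.injective (MulAut.conj g⁻¹) e)
    have h2 := hM'.2 _ h1
    rw [eq_top_iff]
    intro x _
    have := h2 ▸ Subgroup.mem_top (g⁻¹ * x * g)
    rw [CfsgLib.mem_conj_smul_iff] at this
    simpa [mul_assoc] using this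
  have he : M'' = M := (eq_or_lt_of_le hM''M).resolve_right fun hlt => hM.1 (hM''c.2 M hlt)
  exact ⟨he ▸ hU'.conj g, Q, he ▸ hQM⟩

end CfsgLib.ExpPm1
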