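import Cfsg.Agent.Lib.ExpPm1.Basic
import Cfsg.Agent.Lib.ZJ.Complement
import Cfsg.Agent.Lib.Products

/-!
Solvable groups with the hypothesis: a Hall `p'`-subgroup and `O_p`.
-/

set_option autoImplicit false
set_option linter.unusedSectionVars false

namespace CfsgLib.ExpPm1

open Cfsg
open scoped commutatorElement Pointwise

universe u
variable {G : Type u} [Group G] {p : ℕ}

/-- `H` is a Hall `p'`-subgroup of `X`. -/
def IsHallIn (p : ℕ) (H X : Subgroup G) : Prop :=
  H ≤ X ∧ (Nat.card H).Coprime p ∧ ∀ r : ℕ, r.Prime → r ∣ H.relIndex X → r = p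

theorem pPrimeCore_le_of_hall [Finite G] (hp : p.Prime) {H : Subgroup G}
    (hidx : ∀ r : ℕ, r.Prime → r ∣ H.index → r = p) : pPrimeCore p G ≤ H := by
  haveI : (pPrimeCore p G).Normal := Subgroup.sSup_normal _ (fun _ h => h.1)
  set K := pPrimeCore p G with hK
  rw [← Subgroup.relIndex_eq_one]
  by_contra hne
  obtain ⟨r, hr, hrd⟩ := Nat.exists_prime_and_dvd hne
  have h1 : H.relIndex (H ⊔ K) = H.relIndex K := by
    have e1 := CfsgLib.Products.card_inf_mul_relIndex H K
    have e2 := CfsgLib.Products.card_inf_mul_relIndex K H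
    have e3 := CfsgLib.Products.card_mul_relIndex_of_le (le_sup_left : H ≤ H ⊔ K)
    have e4 := CfsgLib.Products.card_mul_relIndex_of_le (le_sup_right : K ≤ H ⊔ K)
    rw [inf_comm] at e2
    rw [Subgroup.relIndex_sup_right] at e4
    refine Nat.eq_of_mul_eq_mul_left (Nat.card_pos (α := H)) ?_
    rw [e3, ← e4]
    conv_lhs => rw [← e1]
    conv_rhs => rw [← e2]
    ring
  have h2 : H.relIndex K ∣ H.index := by
    rw [← h1]
    exact Dvd.intro _ (Subgroup.relIndex_mul_index le_sup_left)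
  have := hidx r hr (hrd.trans h2)
  subst this
  exact CfsgLib.not_dvd_card_pPrimeCore hr (hrd.trans (Subgroup.relIndex_dvd_card H K))

/-- Over `O_p = 1`, a Hall `p'`-subgroup is normal. -/
theorem hall_eq_pPrimeCore [Finite G] [Group.IsSolvable G] (hp : p.Prime) (hQ : pCore p G = ⊥)
    {H : Subgroup G} (hidx : ∀ r : ℕ, r.Prime → r ∣ H.index → r = p)
    (hcomm : ∀ a ∈ H, ∀ b ∈ H, a * b = b * a) : H = pPrimeCore p G := by
  haveI := Fact.mk hp
  have hK := pPrimeCore_le_of_hall hp hidx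
  have hF : fittingSubgroup G ≤ pPrimeCore p G := by
    rw [CfsgLib.fittingSubgroup_eq_iSup_pCore]
    refine iSup_le fun ⟨q, hq⟩ => ?_
    show pCore q G ≤ pPrimeCore p G
    by_cases hqp : q = p
    · rw [hqp, hQ]; exact bot_le
    · haveI := Fact.mk hq
      exact CfsgLib.le_pPrimeCore (coprime_of_isPGroup hp hq hqp (CfsgLib.isPGroup_pCore (G := G) q))
  refine le_antisymm (fun a ha => hF (CfsgLib.centralizer_fitting_le ?_)) hK
  exact Subgroup.mem_centralizer_iff.2 fun b hb => hcomm b (hK (hF hb)) a ha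

/-- **L1.** In a solvable group with abelian Hall `p'`-subgroup `H`: `H O_p(G)` is normal and every
`p`-subgroup normalised by `H` lies in `O_p(G)`. -/
theorem hall_sup_pCore [Finite G] [Group.IsSolvable G] (hp : p.Prime) {H : Subgroup G}
    (hH : (Nat.card H).Coprime p) (hidx : ∀ r : ℕ, r.Prime → r ∣ H.index → r = p)
    (hcomm : ∀ a ∈ H, ∀ b ∈ H, a * b = b * a) :
    (H ⊔ pCore p G).Normal ∧
      (∀ P : Subgroup G, IsPGroup p P → H ≤ Subgroup.normalizer (P : Set G) → P ≤ pCore p G) ∧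
      pCore p G ⊔ Subgroup.normalizer (H : Set G) = ⊤ := by
  haveI := Fact.mk hp
  set Q := pCore p G with hQ
  set π := QuotientGroup.mk' Q with hπ
  have hπs : Function.Surjective π := QuotientGroup.mk'_surjective Q
  set Hb := H.map π with hHb
  have hHbc : (Nat.card Hb).Coprime p := hH.coprime_dvd_left (Subgroup.card_map_dvd _ _)
  have hcomm' : ∀ a ∈ Hb, ∀ b ∈ Hb, a * b = b * a := by
    rintro _ ⟨a, ha, rfl⟩ _ ⟨b, hb, rfl⟩
    rw [← map_mul, ← map_mul, hcomm a ha b hb]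
  haveI : Group.IsSolvable (G ⧸ Q) := Group.isSolvable_of_surjective hπs
  have hQb : pCore p (G ⧸ Q) = ⊥ := CfsgLib.ZJ.pCore_quotient_pCore_eq_bot
  have hHidx : ∀ r : ℕ, r.Prime → r ∣ Hb.index → r = p := fun r hr hd =>
    hidx r hr (hd.trans (Subgroup.index_map_dvd H hπs))
  have hKeq : Hb = pPrimeCore p (G ⧸ Q) := hall_eq_pPrimeCore hp hQb hHidx hcomm'
  haveI hHn : Hb.Normal := by rw [hKeq]; exact Subgroup.sSup_normal _ (fun _ h => h.1)
  have hHbn : (H ⊔ Q).Normal := by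
    have e : Hb.comap π = H ⊔ Q := by rw [hHb, Subgroup.comap_map_eq, hπ, QuotientGroup.ker_mk']
    rw [← e]; exact Subgroup.normal_comap π
  refine ⟨hHbn, fun P hP hn x hx => ?_, ?_⟩
  · have hPb : ∀ y ∈ P, π y ∈ Hb → π y = 1 := fun y hy hyH => by
      refine eq_one_of_isPEl_of_isPreg hp ?_ (isPreg_of_mem hp hHbc hyH)
      obtain ⟨k, hk⟩ := isPEl_of_mem hP hy
      exact ⟨k, by rw [← map_pow, hk, map_one]⟩
    have hFH : fittingSubgroup (G ⧸ Q) ≤ Hb := by
      rw [CfsgLib.fittingSubgroup_eq_iSup_pCore]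
      refine iSup_le fun ⟨q, hq⟩ => ?_
      show pCore q (G ⧸ Q) ≤ Hb
      by_cases hqp : q = p
      · rw [hqp, hQb]; exact bot_le
      · haveI := Fact.mk hq
        rw [hKeq]
        exact CfsgLib.le_pPrimeCore
          (coprime_of_isPGroup hp hq hqp (CfsgLib.isPGroup_pCore (G := G ⧸ Q) q))
    have hF : π x ∈ Subgroup.centralizer (fittingSubgroup (G ⧸ Q) : Set (G ⧸ Q)) := by
      rw [Subgroup.mem_centralizer_iff]
      intro b hb
      obtain ⟨h0, hh0, rfl⟩ := hFH hb
      have h1 : h0 * x * h0⁻¹ * x⁻¹ ∈ P :=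
        mul_mem ((Subgroup.mem_normalizer_iff.1 (hn hh0) x).1 hx) (inv_mem hx)
      have h2 : π (h0 * x * h0⁻¹ * x⁻¹) ∈ Hb := by
        rw [show h0 * x * h0⁻¹ * x⁻¹ = h0 * (x * h0⁻¹ * x⁻¹) by group, map_mul]
        refine mul_mem ⟨h0, hh0, rfl⟩ ?_
        rw [map_mul, map_mul, map_inv, map_inv]
        exact hHn.conj_mem _ (inv_mem ⟨h0, hh0, rfl⟩) (π x)
      have h3 := hPb _ h1 h2
      rw [map_mul, map_mul, map_mul, map_inv, map_inv, mul_inv_eq_one, mul_inv_eq_iff_eq_mul] at h3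
      exact h3
    have := hPb x hx (hFH (CfsgLib.centralizer_fitting_le hF))
    exact (QuotientGroup.eq_one_iff x).1 this
  · have hcop : (Nat.card H).Coprime (H.relIndex (H ⊔ Q)) := by
      refine Nat.coprime_of_dvd' fun r hr h1 h2 => ?_
      have := hidx r hr (h2.trans (Dvd.intro _ (Subgroup.relIndex_mul_index le_sup_left)))
      subst this
      exact absurd (hH ▸ Nat.dvd_gcd h1 dvd_rfl) hr.not_dvd_one
    haveI := hHbn
    have := CfsgLib.hall_frattini (L := H ⊔ Q)
      (Group.isSolvable_of_isSolvable_injective (f := (H ⊔ Q).subtype) (H ⊔ Q).subtype_injective)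
      le_sup_left hcop
    rw [eq_top_iff, ← this]
    exact sup_le (sup_le (Subgroup.le_normalizer.trans le_sup_right) le_sup_left) le_sup_right

/-- `O_p` of a subgroup, inside the ambient group. -/
def opIn (p : ℕ) (X : Subgroup G) : Subgroup G := (pCore p X).map X.subtype

theorem opIn_le (X : Subgroup G) : opIn p X ≤ X := Subgroup.map_subtype_le _

theorem isPGroup_opIn [Finite G] (X : Subgroup G) : IsPGroup p (opIn p X) :=
  (CfsgLib.isPGroup_pCore (G := X) p).map _

theorem le_normalizer_opIn (X : Subgroup G) : X ≤ Subgroup.normalizer (opIn p X : Set G) := by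
  intro x hx
  rw [Subgroup.mem_normalizer_iff]
  intro y
  constructor
  · rintro ⟨z, hz, rfl⟩
    exact ⟨⟨x, hx⟩ * z * ⟨x, hx⟩⁻¹, (inferInstance : (pCore p X).Normal).conj_mem z hz _, rfl⟩
  · rintro ⟨z, hz, e⟩
    refine ⟨⟨x, hx⟩⁻¹ * z * ⟨x, hx⟩, ?_, ?_⟩
    · simpa using (inferInstance : (pCore p X).Normal).conj_mem z hz (⟨x, hx⟩⁻¹ : X)
    · show x⁻¹ * (X.subtype z) * x = y
      rw [e]; group

theorem le_opIn {X U : Subgroup G} (hUX : U ≤ X) (hU : IsPGroup p U)
    (hn : X ≤ Subgroup.normalizer (U : Set G)) : U ≤ opIn p X := by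
  haveI : (U.subgroupOf X).Normal := (Subgroup.normal_subgroupOf_iff_le_normalizer hUX).2 hn
  rw [← Subgroup.map_subgroupOf_eq_of_le hUX]
  exact Subgroup.map_mono (CfsgLib.le_pCore hU.comap_subtype)

theorem le_opIn_of_hall [Finite G] (hp : p.Prime) {X H P : Subgroup G} (hX : Group.IsSolvable X)
    (hH : IsHallIn p H X) (hcomm : ∀ a ∈ H, ∀ b ∈ H, a * b = b * a) (hPX : P ≤ X) (hP : IsPGroup p P)
    (hn : H ≤ Subgroup.normalizer (P : Set G)) : P ≤ opIn p X := by
  haveI := hX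
  obtain ⟨hHX, hHc, hHi⟩ := hH
  have := (hall_sup_pCore (G := X) hp (H := H.subgroupOf X)
    (by rwa [Nat.card_congr (Subgroup.subgroupOfEquivOfLe hHX).toEquiv]) hHi
    (fun a ha b hb => Subtype.ext (hcomm _ ha _ hb))).2.1 (P.subgroupOf X) hP.comap_subtype
    ((Subgroup.comap_mono hn).trans (Subgroup.le_normalizer_comap _))
  rw [← Subgroup.map_subgroupOf_eq_of_le hPX]
  exact Subgroup.map_mono this

theorem exists_mul_of_hall [Finite G] (hp : p.Prime) {X H : Subgroup G} (hX : Group.IsSolvable X)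
    (hH : IsHallIn p H X) (hcomm : ∀ a ∈ H, ∀ b ∈ H, a * b = b * a) :
    X ≤ opIn p X ⊔ (X ⊓ Subgroup.normalizer (H : Set G)) := by
  haveI := hX
  obtain ⟨hHX, hHc, hHi⟩ := hH
  have := (hall_sup_pCore (G := X) hp (H := H.subgroupOf X)
    (by rwa [Nat.card_congr (Subgroup.subgroupOfEquivOfLe hHX).toEquiv]) hHi
    (fun a ha b hb => Subtype.ext (hcomm _ ha _ hb))).2.2
  calc X = (⊤ : Subgroup X).map X.subtype := by rw [← MonoidHom.range_eq_map, Subgroup.range_subtype]
    _ ≤ _ := by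
      rw [← this, Subgroup.map_sup]
      refine sup_le_sup_left (le_inf (Subgroup.map_subtype_le _) ?_) _
      conv_rhs => rw [← Subgroup.map_subgroupOf_eq_of_le hHX]
      exact Subgroup.le_normalizer_map _

/-- Hall `p'`-subgroups containing a given `p'`-subgroup. -/
theorem exists_hallIn [Finite G] (hp : p.Prime) {X K : Subgroup G} (hX : Group.IsSolvable X)
    (hKX : K ≤ X) (hK : (Nat.card K).Coprime p) : ∃ H, K ≤ H ∧ IsHallIn p H X := by
  haveI := hX
  set c := Nat.card X with hc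
  have hc0 : c ≠ 0 := Nat.card_pos.ne'
  set n := p ^ c.factorization p with hn
  set m := c / n with hm
  have hcn : Nat.card X = m * n := by rw [mul_comm]; exact (Nat.ordProj_mul_ordCompl_eq_self c p).symm
  have hmp : m.Coprime p := ((hp.coprime_iff_not_dvd).2 (Nat.not_dvd_ordCompl hp hc0)).symm
  obtain ⟨⟨H₀, hH₀⟩, hD⟩ := CfsgLib.hall_main hcn (hmp.pow_right _)
  have hKm : Nat.card (K.subgroupOf X) ∣ m := by
    have hd := Subgroup.card_subgroup_dvd_card (K.subgroupOf X)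
    rw [hcn] at hd
    refine (Nat.Coprime.pow_right (c.factorization p) ?_).dvd_of_dvd_mul_right hd
    rwa [Nat.card_congr (Subgroup.subgroupOfEquivOfLe hKX).toEquiv]
  obtain ⟨g, hg⟩ := hD H₀ _ hH₀ hKm
  set H₁ := MulAut.conj g⁻¹ • H₀ with hH₁
  have hK1 : K.subgroupOf X ≤ H₁ := by
    intro k hk
    rw [hH₁, CfsgLib.mem_conj_smul_iff]
    have : g * k * g⁻¹ ∈ H₀ := hg (CfsgLib.mem_conj_smul_iff.2 (by simpa [mul_assoc] using hk))
    simpa using this
  have hc1 : Nat.card H₁ = m := by rw [hH₁, CfsgLib.card_conj_smul, hH₀]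
  refine ⟨H₁.map X.subtype, fun k hk => ⟨⟨k, hKX hk⟩, hK1 hk, rfl⟩, Subgroup.map_subtype_le _, ?_, ?_⟩
  · rwa [Subgroup.card_map_of_injective X.subtype_injective, hc1]
  · intro r hr hrd
    have e : (H₁.map X.subtype).relIndex X = n := by
      have h1 := CfsgLib.Products.card_mul_relIndex_of_le (Subgroup.map_subtype_le H₁)
      rw [Subgroup.card_map_of_injective X.subtype_injective, hc1, hcn] at h1
      exact Nat.eq_of_mul_eq_mul_left (Nat.pos_of_ne_zero fun h => (Nat.card_pos (α := X)).ne' (by rw [hcn, h, zero_mul])) h1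
    rw [e] at hrd
    exact (Nat.prime_dvd_prime_iff_eq hr hp).1 (hr.dvd_of_dvd_pow hrd)

end CfsgLib.ExpPm1
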