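import Cfsg.Agent.Lib.ExpPm1.Fusion
import Cfsg.Agent.Lib.Coprime

/-!
The structure of the owning maximal subgroups: an abelian normal Hall `p'`-subgroup on which a Sylow
`p`-subgroup acts without fixed points.
-/

set_option autoImplicit false
set_option linter.unusedSectionVars false

namespace CfsgLib.ExpPm1

open Cfsg
open scoped commutatorElement Pointwise

universe u
variable {G : Type u} [Group G] {p r : ℕ} {M D : Subgroup G}

/-- `O_{p'}(M)` inside the ambient group. -/
def core (p : ℕ) (M : Subgroup G) : Subgroup G := (pPrimeCore p M).map M.subtype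

theorem core_le (M : Subgroup G) : core p M ≤ M := Subgroup.map_subtype_le _

theorem card_core_coprime [Finite G] (M : Subgroup G) : (Nat.card (core p M)).Coprime p := by
  rw [core, Subgroup.card_map_of_injective M.subtype_injective]
  exact CfsgLib.card_pPrimeCore_coprime p

theorem core_conj [Finite G] {g y : G} (hg : g ∈ M) (hy : y ∈ core p M) : g * y * g⁻¹ ∈ core p M := by
  obtain ⟨z, hz, rfl⟩ := hy
  haveI : (pPrimeCore p M).Normal := Subgroup.sSup_normal _ (fun _ h => h.1)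
  exact ⟨⟨g, hg⟩ * z * ⟨g, hg⟩⁻¹, (inferInstance : (pPrimeCore p M).Normal).conj_mem z hz _, rfl⟩

theorem Setting.core_comm [Finite G] (hS : Setting p G) (M : Subgroup G) {a b : G} (ha : a ∈ core p M)
    (hb : b ∈ core p M) : a * b = b * a :=
  (hS.hyp _ (card_core_coprime M)).1 a ha b hb

theorem Setting.not_isCyclic_omega1_of [Finite G] (hS : Setting p G) (hr : r.Prime) (hrp : r ≠ p)
    {T : Subgroup G} (hT : IsPGroup r T) (hc : ¬ IsCyclic T) : ¬ IsCyclic (omega1 r T) := by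
  haveI := Fact.mk hr
  intro hcy
  have hcomm := (hS.hyp T (coprime_of_isPGroup hS.hp hr hrp hT)).1
  haveI : IsMulCommutative T := ⟨⟨fun a b => Subtype.ext (hcomm a a.2 b b.2)⟩⟩
  obtain ⟨q, hq, a, b, ha, hb, hab⟩ := CfsgLib.exists_two_generators_of_not_cyclic hc
  obtain ⟨k, hk⟩ := hT a
  have hqr : q = r := (Nat.prime_dvd_prime_iff_eq hq hr).1
    (hq.dvd_of_dvd_pow (ha ▸ orderOf_dvd_of_pow_eq_one hk))
  subst hqr
  set V := omega1 q T with hV
  have hmem : ∀ c : T, orderOf c = q → (c : G) ∈ V := fun c hc =>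
    (mem_omega1_iff hcomm).2 ⟨c.2, by rw [← hc, ← Subgroup.coe_pow, pow_orderOf_eq_one]; rfl⟩
  obtain ⟨g, hg⟩ := IsCyclic.exists_generator (α := V)
  have hgq : orderOf g ∣ q :=
    orderOf_dvd_of_pow_eq_one (Subtype.ext (by simpa using ((mem_omega1_iff hcomm).1 g.2).2))
  have ha' : orderOf (⟨(a : G), hmem a ha⟩ : V) = q := by
    rw [Subgroup.orderOf_mk, Subgroup.orderOf_coe, ha]
  have htop : Subgroup.zpowers (⟨(a : G), hmem a ha⟩ : V) = ⊤ := by
    refine Subgroup.eq_top_of_card_eq _ ?_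
    rw [Nat.card_zpowers, ha', ← orderOf_eq_card_of_forall_mem_zpowers hg]
    refine (Nat.dvd_antisymm hgq ?_).symm
    rw [← ha', orderOf_eq_card_of_forall_mem_zpowers hg]
    exact orderOf_dvd_natCard _
  obtain ⟨n, hn⟩ : (⟨(b : G), hmem b hb⟩ : V) ∈ Subgroup.zpowers (⟨(a : G), hmem a ha⟩ : V) :=
    htop ▸ Subgroup.mem_top _
  refine hab ⟨n, Subtype.ext ?_⟩
  simpa using congrArg Subtype.val hn

/-- What is used about an owning maximal subgroup `M`, with a Sylow `p`-subgroup `D`. -/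
structure Owns (p : ℕ) (M D : Subgroup G) : Prop where
  good : Good p M
  exists_prime : ∃ q : ℕ, q.Prime ∧ q ≠ p ∧ q ∣ Nat.card M
  le : D ≤ M
  isPGroup : IsPGroup p D
  not_dvd : ¬ p ∣ D.relIndex M

theorem Owns.exists_pEl [Finite G] (hS : Setting p G) (hO : Owns p M D) {q : ℕ} [Fact q.Prime] (hqp : q ≠ p)
    (hqd : q ∣ Nat.card M) :
    ∃ R : Sylow q G, (R : Subgroup G) ≤ M ∧ Subgroup.normalizer ((R : Subgroup G) : Set G) ≤ M ∧
      ∃ x ∈ Subgroup.normalizer ((R : Subgroup G) : Set G), IsPEl p x ∧ ∃ a ∈ (R : Subgroup G), x * a ≠ a * x := by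
  obtain ⟨hU, R, hRM⟩ := hO.good.2 q Fact.out hqp hqd
  have hqG : q ∣ Nat.card G := hqd.trans (Subgroup.card_subgroup_dvd_card M)
  obtain ⟨v, hv⟩ := exists_prime_orderOf_dvd_card' (G := (R : Subgroup G)) q (R.dvd_card_of_dvd_card hqG)
  exact ⟨R, hRM, hU.normalizer_le hRM v.2 (by rw [Subgroup.orderOf_coe, hv]), hS.exists_not_commute hqp hqG R⟩

theorem Owns.ne_bot [Finite G] (hS : Setting p G) (hO : Owns p M D) : D ≠ ⊥ := by
  obtain ⟨q, hq, hqp, hqd⟩ := hO.exists_prime
  haveI := Fact.mk hq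
  haveI := Fact.mk hS.hp
  obtain ⟨R, -, hNM, x, hxN, hx, a, -, hxa⟩ := hO.exists_pEl hS hqp hqd
  intro hD
  have h1 : ¬ p ∣ Nat.card M := by
    have h := hO.not_dvd
    rwa [hD, Subgroup.relIndex_bot_left] at h
  have hx1 : x = 1 := eq_one_of_isPEl_of_isPreg hS.hp hx
    (isPreg_of_mem hS.hp ((hS.hp.coprime_iff_not_dvd.2 h1).symm) (hNM hxN))
  exact hxa (by rw [hx1, one_mul, mul_one])

/-- Some element outside `M` normalises `D`. -/
theorem Owns.exists_mover [Finite G] (hS : Setting p G) (hO : Owns p M D) :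
    ∃ g ∈ Subgroup.normalizer (D : Set G), g ∉ M := by
  haveI := Fact.mk hS.hp
  by_contra hno
  push Not at hno
  have hND : Subgroup.normalizer (D : Set G) ≤ M := hno
  obtain ⟨P, hDP⟩ := hO.isPGroup.exists_le_sylow
  by_cases hDeq : (P : Subgroup G) = D
  · obtain ⟨hPN, -⟩ := hS.sylow_facts P
    have hMs := hS.sol M hO.good.1.1
    have hPM : (P : Subgroup G) ≤ M := hDeq ▸ hO.le
    have hNM : Subgroup.normalizer ((P : Subgroup G) : Set G) ≤ M := by rw [hDeq]; exact hND
    have hMN : M ≤ Subgroup.normalizer ((P : Subgroup G) : Set G) :=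
      hS.hyp.le_normalizer_of_le_commutator hS.hp hMs P hPM (hPN.trans (Subgroup.commutator_mono hNM hNM))
    obtain ⟨q, hq, hqp, hqd⟩ := hO.exists_prime
    haveI := Fact.mk hq
    obtain ⟨R, hRM, hNRM, x, hxN, hx, a, ha, hxa⟩ := hO.exists_pEl hS hqp hqd
    refine hxa ?_
    have hxP : x ∈ (P : Subgroup G) := CfsgLib.TransferApps.mem_sylow_of_mem_normalizer P
      (hMN (hNRM hxN)) hx
    have h1 : x * a * x⁻¹ * a⁻¹ ∈ (P : Subgroup G) := by
      rw [show x * a * x⁻¹ * a⁻¹ = x * (a * x⁻¹ * a⁻¹) by group]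
      exact mul_mem hxP ((Subgroup.mem_normalizer_iff.1 (hMN (hRM ha)) _).1 (inv_mem hxP))
    have h2 : x * a * x⁻¹ * a⁻¹ ∈ (R : Subgroup G) :=
      mul_mem ((Subgroup.mem_normalizer_iff.1 hxN a).1 ha) (inv_mem ha)
    have h3 := eq_one_of_isPEl_of_isPreg hS.hp (isPEl_of_mem P.2 h1)
      (isPreg_of_mem hS.hp (coprime_of_isPGroup hS.hp hq hqp R.2) h2)
    rwa [mul_inv_eq_one, mul_inv_eq_iff_eq_mul] at h3
  · -- the normaliser grows inside `P`
    haveI := P.2.isNilpotent
    have hlt : D.subgroupOf (P : Subgroup G) < ⊤ := by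
      refine lt_top_iff_ne_top.2 fun h => hDeq ?_
      rw [Subgroup.subgroupOf_eq_top] at h
      exact le_antisymm h hDP
    have h1 : NormalizerCondition (P : Subgroup G) := Group.normalizerCondition_of_isNilpotent
    obtain ⟨x, hxN, hxD⟩ := SetLike.exists_of_lt (h1 _ hlt)
    have hxN' : (x : G) ∈ Subgroup.normalizer (D : Set G) := by
      have := Subgroup.le_normalizer_map (P : Subgroup G).subtype (Subgroup.mem_map_of_mem _ hxN)
      rwa [Subgroup.map_subgroupOf_eq_of_le hDP] at this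
    have hKp : IsPGroup p ↥(D ⊔ Subgroup.zpowers (x : G)) :=
      P.2.to_le (sup_le hDP (Subgroup.zpowers_le.2 x.2))
    have hKM : D ⊔ Subgroup.zpowers (x : G) ≤ M := sup_le hO.le (Subgroup.zpowers_le.2 (hND hxN'))
    refine hO.not_dvd ?_
    rw [← Subgroup.relIndex_mul_relIndex D (D ⊔ Subgroup.zpowers (x : G)) M le_sup_left hKM]
    refine Dvd.dvd.mul_right ?_ _
    obtain ⟨k, hk⟩ := hKp.exists_card_eq
    have hd : D.relIndex (D ⊔ Subgroup.zpowers (x : G)) ∣ p ^ k := hk ▸ Subgroup.relIndex_dvd_card _ _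
    obtain ⟨j, -, hj⟩ := (Nat.dvd_prime_pow hS.hp).1 hd
    rw [hj]
    refine dvd_pow_self p fun hj0 => hxD ?_
    rw [hj0, pow_zero, Subgroup.relIndex_eq_one] at hj
    exact hj (Subgroup.mem_sup_right (Subgroup.mem_zpowers _))

theorem Owns.mover_zj [Finite G] (hS : Setting p G) (hO : Owns p M D) :
    ∃ g, g ∉ M ∧ g ∈ Subgroup.normalizer (ZJ.zj p D : Set G) ∧
      g ∈ Subgroup.normalizer ((D ⊓ Subgroup.centralizer (D : Set G) : Subgroup G) : Set G) := by
  obtain ⟨g, hg, hgM⟩ := hO.exists_mover hS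
  refine ⟨g, hgM, ZJ.normalizer_le_normalizer_zj p D hg, CfsgLib.Comp.mem_normalizer_of_maps ?_⟩
  rintro y ⟨hy1, hy2⟩
  refine ⟨(Subgroup.mem_normalizer_iff.1 hg y).1 hy1, fun d hd => ?_⟩
  have hd' : g⁻¹ * d * g ∈ D := by
    simpa using (Subgroup.mem_normalizer_iff.1 (inv_mem hg) d).1 hd
  have h : g⁻¹ * d * g * y = y * (g⁻¹ * d * g) := hy2 _ hd'
  calc d * (g * y * g⁻¹) = g * (g⁻¹ * d * g * y) * g⁻¹ := by group
    _ = g * (y * (g⁻¹ * d * g)) * g⁻¹ := by rw [h]
    _ = g * y * g⁻¹ * d := by group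

/-- `O_{p'}(M)` contains every element of order prime to `p` of `M`. -/
theorem Owns.mem_core [Finite G] (hS : Setting p G) (hO : Owns p M D) {y : G} (hyM : y ∈ M) (hy : IsPreg p y) :
    y ∈ core p M := by
  haveI := Fact.mk hS.hp
  haveI hMs := hS.sol M hO.good.1.1
  haveI hKn : (pPrimeCore p M).Normal := Subgroup.sSup_normal _ (fun _ h => h.1)
  set K := pPrimeCore p M with hK
  set π := QuotientGroup.mk' K with hπ
  have hπs : Function.Surjective π := QuotientGroup.mk'_surjective K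
  suffices key : ∀ q : ℕ, q.Prime → q ≠ p → ¬ q ∣ K.index by
    refine ⟨⟨y, hyM⟩, (QuotientGroup.eq_one_iff _).1 (orderOf_eq_one_iff.1 (not_not.1 fun hne => ?_)), rfl⟩
    obtain ⟨q, hq, hqd⟩ := Nat.exists_prime_and_dvd hne
    refine key q hq (fun e => hy ?_) ((hqd.trans (orderOf_dvd_natCard _)).trans dvd_rfl)
    rw [← e, ← Subgroup.orderOf_mk y hyM]
    exact hqd.trans (orderOf_map_dvd π _)
  intro q hq hqp hqK
  haveI := Fact.mk hq
  have hqM : q ∣ Nat.card M := hqK.trans (Subgroup.index_dvd_card K)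
  have hqG : q ∣ Nat.card G := hqM.trans (Subgroup.card_subgroup_dvd_card M)
  obtain ⟨hU, R, hRM⟩ := hO.good.2 q hq hqp hqM
  -- `M = K N_M(Z)`
  set Z := ZJ.zj p D with hZ
  set DM : Sylow p M := (hO.isPGroup.comap_subtype (K := M)).toSylow hO.not_dvd with hDM
  have hfr := (hS.hyp.subgroup M).zj_frattini hS.hp hS.five DM
  set L := Subgroup.normalizer (ZJ.zj p (DM : Subgroup M) : Set M) with hL
  have hLZ : L.map M.subtype ≤ Subgroup.normalizer (Z : Set G) := by
    refine (Subgroup.le_normalizer_map M.subtype).trans (le_of_eq ?_)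
    rw [← CfsgLib.ZJ.zj_map p M.subtype_injective, hZ]
    exact congrArg (fun X : Subgroup G => Subgroup.normalizer (ZJ.zj p X : Set G))
      (Subgroup.map_subgroupOf_eq_of_le hO.le)
  have hfs : Function.Surjective (π.comp L.subtype) := by
    intro z
    obtain ⟨m, rfl⟩ := hπs z
    have hm : m ∈ K ⊔ L := hfr ▸ Subgroup.mem_top m
    obtain ⟨k, hk, l, hl, rfl⟩ := CfsgLib.mem_sup_of_le_normalizer
      (A := L) (W := K) (by rw [Subgroup.normalizer_eq_top]; exact le_top) hm
    refine ⟨⟨l, hl⟩, ?_⟩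
    show π l = π (k * l)
    rw [map_mul, show π k = 1 from (QuotientGroup.eq_one_iff k).2 hk, one_mul]
  obtain ⟨T⟩ := (inferInstance : Nonempty (Sylow q L))
  set TG := ((T : Subgroup L).map L.subtype).map M.subtype with hTG
  have hTGp : IsPGroup q TG := (T.2.map _).map _
  have hTc : IsCyclic TG := by
    by_contra hc
    obtain ⟨g, hgM, hgZ, -⟩ := hO.mover_zj hS
    refine hgM ?_
    have hZne : Z ≠ ⊥ := ZJ.zj_ne_bot (Or.inr rfl) hO.isPGroup (hO.ne_bot hS)
    have hTGM : TG ≤ M := Subgroup.map_subtype_le _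
    have hXne : Subgroup.normalizer (Z : Set G) ≠ ⊤ :=
      hS.normalizer_ne_top hZne (hS.ne_top_of_isPGroup (hO.isPGroup.to_le (ZJ.zj_le p _)))
    exact hS.le_of_noncyclic hq hqp hU hXne (hS.not_isCyclic_omega1_of hq hqp hTGp hc)
      ((omega1_le q TG).trans ((Subgroup.map_mono (Subgroup.map_subtype_le _)).trans hLZ))
      ((omega1_le q TG).trans hTGM)
      (fun v hv => ((mem_omega1_iff (hS.hyp TG (coprime_of_isPGroup hS.hp hq hqp hTGp)).1).1 hv).2) hgZ
  -- so the image of `R` in `M / K` is cyclic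
  set RM : Sylow q M := R.subtype hRM with hRMdef
  set Rb : Sylow q (M ⧸ K) := RM.mapSurjective hπs with hRb
  haveI hRbc : IsCyclic (Rb : Subgroup (M ⧸ K)) := by
    set Tb : Sylow q (M ⧸ K) := T.mapSurjective hfs with hTb
    have hTLc : IsCyclic (T : Subgroup L) := by
      have e := (T : Subgroup L).equivMapOfInjective (M.subtype.comp L.subtype)
        (M.subtype_injective.comp L.subtype_injective)
      haveI : IsCyclic ↥((T : Subgroup L).map (M.subtype.comp L.subtype)) := by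
        rw [← Subgroup.map_map]; exact hTc
      exact isCyclic_of_surjective e.symm.toMonoidHom e.symm.surjective
    haveI : IsCyclic (Tb : Subgroup (M ⧸ K)) :=
      isCyclic_of_surjective ((π.comp L.subtype).subgroupMap (T : Subgroup L))
        (MonoidHom.subgroupMap_surjective _ _)
    exact isCyclic_of_surjective (Sylow.equiv Tb Rb).toMonoidHom (Sylow.equiv Tb Rb).surjective
  have hqq : q ∣ Nat.card (M ⧸ K) := hqK
  have hRbne : (Rb : Subgroup (M ⧸ K)) ≠ ⊥ := Rb.ne_bot_of_dvd_card hqq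
  obtain ⟨u, huR, huK⟩ : ∃ u ∈ (R : Subgroup G), u ∉ core p M := by
    by_contra hno
    push Not at hno
    refine hRbne (le_bot_iff.1 ?_)
    rintro _ ⟨z, hz, rfl⟩
    obtain ⟨w, hw, e⟩ := hno (z : G) hz
    rw [Subgroup.mem_bot]
    exact (QuotientGroup.eq_one_iff z).2 (by rw [← M.subtype_injective e]; exact hw)
  have hNRM : Subgroup.normalizer ((R : Subgroup G) : Set G) ≤ M := by
    obtain ⟨v, hv⟩ := exists_prime_orderOf_dvd_card' (G := (R : Subgroup G)) q (R.dvd_card_of_dvd_card hqG)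
    exact hU.normalizer_le hRM v.2 (by rw [Subgroup.orderOf_coe, hv])
  set NR := Subgroup.normalizer ((R : Subgroup G) : Set G) with hNR
  have hRexp : ∀ c ∈ (Rb : Subgroup (M ⧸ K)), c ^ (p - 1) = 1 := by
    rintro _ ⟨z, hz, rfl⟩
    have : z ^ (p - 1) = 1 := Subtype.ext (by
      simpa using (hS.hyp _ (coprime_of_isPGroup hS.hp hq hqp R.2)).2 (z : G) hz)
    rw [← map_pow, this, map_one]
  -- `p`-elements of `N(R)` fix `u` modulo `K`
  obtain ⟨Q⟩ := (inferInstance : Nonempty (Sylow p NR))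
  set A := (Q : Subgroup NR).map NR.subtype with hA
  have hAN : A ≤ NR := Subgroup.map_subtype_le _
  have hAp : IsPGroup p A := Q.2.map _
  set N := (R : Subgroup G) ⊓ core p M with hN
  have hfix : ∀ a ∈ A, a * u * a⁻¹ * u⁻¹ ∈ N := by
    intro a ha
    have haR : a * u * a⁻¹ ∈ (R : Subgroup G) := (Subgroup.mem_normalizer_iff.1 (hAN ha) u).1 huR
    refine ⟨show a * u * a⁻¹ * u⁻¹ ∈ (R : Subgroup G) from mul_mem haR (inv_mem huR), ?_⟩
    set a' : M := ⟨a, hNRM (hAN ha)⟩ with ha'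
    set u' : M := ⟨u, hRM huR⟩ with hu'
    have hn : π a' ∈ Subgroup.normalizer ((Rb : Subgroup (M ⧸ K)) : Set (M ⧸ K)) := by
      refine CfsgLib.Comp.mem_normalizer_of_maps ?_
      rintro _ ⟨z, hz, rfl⟩
      refine ⟨a' * z * a'⁻¹, ?_, by simp⟩
      exact (Subgroup.mem_normalizer_iff.1 (hAN ha) (z : G)).1 hz
    obtain ⟨k, hk⟩ := isPEl_of_mem hAp ha
    have hpe : IsPEl p (π a') := ⟨k, by
      rw [← map_pow, show a' ^ p ^ k = 1 from Subtype.ext (by simpa using hk), map_one]⟩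
    have h1 := commute_of_cyclic hS.hp hRexp hpe hn (c := π u') ⟨u', huR, rfl⟩
    refine ⟨a' * u' * a'⁻¹ * u'⁻¹, (QuotientGroup.eq_one_iff _).1 ?_, rfl⟩
    show π (a' * u' * a'⁻¹ * u'⁻¹) = 1
    simp only [map_mul, map_inv]
    rw [h1]; group
  have hcop : (Nat.card A).Coprime (Nat.card (R : Subgroup G)) := by
    obtain ⟨i, hi⟩ := hAp.exists_card_eq
    obtain ⟨j, hj⟩ := R.2.exists_card_eq
    rw [hi, hj]
    exact ((Nat.coprime_primes hS.hp hq).2 (Ne.symm hqp)).pow i j
  have hnorm : ∀ m ∈ M, m ∈ NR → m ∈ Subgroup.normalizer (N : Set G) := fun m hm hmR =>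
    CfsgLib.Comp.mem_normalizer_of_maps fun z hz =>
      ⟨(Subgroup.mem_normalizer_iff.1 hmR z).1 hz.1, core_conj hm hz.2⟩
  obtain ⟨c, ⟨hcR, hcA⟩, hcN⟩ := CfsgLib.coprime_fixed_quotient (A := A) (K := (R : Subgroup G)) (N := N)
    hAN hcop (Or.inr (by haveI := R.2.isNilpotent; infer_instance)) inf_le_left
    (fun z hz => hnorm z (hRM hz) (Subgroup.le_normalizer hz))
    (fun z hz => hnorm z (hNRM (hAN hz)) (hAN hz)) huR hfix
  have hc1 : c ≠ 1 := by
    rintro rfl
    exact huK (by simpa using (core p M).inv_mem hcN.2)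
  refine hc1 (hS.eq_one_of_fixed hqp R hcR fun g hg => ?_)
  suffices hle : NR ≤ Subgroup.centralizer ({c} : Set G) from Subgroup.mem_centralizer_singleton_iff.1 (hle hg)
  rw [← Subgroup.relIndex_eq_one]
  by_contra hne
  obtain ⟨l, hl, hld⟩ := Nat.exists_prime_and_dvd hne
  haveI := Fact.mk hl
  obtain ⟨Q', hQ'⟩ : ∃ Q' : Sylow l NR, ∀ z ∈ (Q' : Subgroup NR), (z : G) * c = c * z := by
    by_cases hlp : l = p
    · subst hlp
      exact ⟨Q, fun z hz => (hcA (z : G) ⟨z, hz, rfl⟩)⟩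
    · obtain ⟨Q'⟩ := (inferInstance : Nonempty (Sylow l NR))
      refine ⟨Q', fun z hz => ?_⟩
      refine hS.hyp.commute_of_normalizes hS.hp (coprime_of_isPGroup hS.hp hq hqp R.2) ?_ z.2 hcR
      refine isPreg_of_prime_ne hS.hp hl hlp ?_
      obtain ⟨k, hk⟩ := isPEl_of_mem Q'.2 hz
      exact ⟨k, by simpa using congrArg Subtype.val hk⟩
  refine Q'.not_dvd_index (hld.trans (Subgroup.index_dvd_of_le fun z hz => ?_))
  exact Subgroup.mem_centralizer_singleton_iff.2 (hQ' z hz)

theorem Owns.core_sup [Finite G] (hS : Setting p G) (hO : Owns p M D) : M ≤ core p M ⊔ D := by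
  haveI := Fact.mk hS.hp
  intro m hm
  rw [← Subgroup.zpowers_le]
  obtain ⟨z, w, e, -, hz, hw, hzm, hwm⟩ := exists_parts hS.hp m
  have hzM : z ∈ M := Subgroup.zpowers_le.2 hm hzm
  have hwM : w ∈ M := Subgroup.zpowers_le.2 hm hwm
  rw [Subgroup.zpowers_le, ← e]
  refine mul_mem ?_ (Subgroup.mem_sup_left (hO.mem_core hS hwM hw))
  -- `K D` has index a `p'`-number and a power of `p`
  have hKD : core p M ⊔ D ≤ M := sup_le (core_le M) hO.le
  suffices h1 : (core p M ⊔ D).relIndex M = 1 from Subgroup.relIndex_eq_one.1 h1 hzM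
  by_contra hne
  obtain ⟨l, hl, hld⟩ := Nat.exists_prime_and_dvd hne
  rcases eq_or_ne l p with rfl | hlp
  · exact hO.not_dvd (hld.trans (Subgroup.relIndex_dvd_of_le_left M le_sup_right))
  · haveI := Fact.mk hl
    have h2 : l ∣ (core p M).relIndex M := hld.trans (Subgroup.relIndex_dvd_of_le_left M le_sup_left)
    obtain ⟨T⟩ := (inferInstance : Nonempty (Sylow l M))
    refine T.not_dvd_index (h2.trans (Subgroup.index_dvd_of_le fun y hy => ?_))
    refine hO.mem_core hS y.2 (isPreg_of_prime_ne hS.hp hl hlp ?_)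
    obtain ⟨k, hk⟩ := isPEl_of_mem T.2 hy
    exact ⟨k, by simpa using congrArg Subtype.val hk⟩

/-- `D` fixes no element of the core. -/
theorem Owns.eq_one_of_commute [Finite G] (hS : Setting p G) (hO : Owns p M D) {c : G} (hc : c ∈ core p M)
    (hD : ∀ d ∈ D, d * c = c * d) : c = 1 := by
  by_contra hc1
  obtain ⟨q, hq, hqd⟩ := Nat.exists_prime_and_dvd (mt orderOf_eq_one_iff.1 hc1)
  haveI := Fact.mk hq
  have hqp : q ≠ p := fun e => isPreg_of_mem hS.hp (card_core_coprime M) hc (e ▸ hqd)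
  have hqM : q ∣ Nat.card M := hqd.trans (Subgroup.orderOf_dvd_natCard M (core_le M hc))
  obtain ⟨hU, R, hRM⟩ := hO.good.2 q hq hqp hqM
  set z := c ^ (orderOf c / q) with hz
  have hzo : orderOf z = q := orderOf_pow_orderOf_div (orderOf_pos c).ne' hqd
  have hzc : z ∈ core p M := pow_mem hc _
  have hcent : M ≤ Subgroup.centralizer ({z} : Set G) := by
    refine (hO.core_sup hS).trans (sup_le (fun y hy => ?_) (fun y hy => ?_))
    · exact Subgroup.mem_centralizer_singleton_iff.2 (hS.core_comm M hy hzc)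
    · exact Subgroup.mem_centralizer_singleton_iff.2 ((show Commute y c from hD y hy).pow_right _).eq
  have hzR : z ∈ (R : Subgroup G) := by
    have hn : z ∈ Subgroup.normalizer ((R : Subgroup G) : Set G) :=
      CfsgLib.Comp.mem_normalizer_of_maps fun y hy => by
        rw [← Subgroup.mem_centralizer_singleton_iff.1 (hcent (hRM hy)), mul_inv_cancel_right]
        exact hy
    have hK : IsPGroup q ↥((R : Subgroup G) ⊔ Subgroup.zpowers z) := IsPGroup.to_sup_of_normal_left' R.2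
      (IsPEl.isPGroup_zpowers ⟨1, by rw [pow_one, ← hzo, pow_orderOf_eq_one]⟩) (Subgroup.zpowers_le.2 hn)
    rw [← R.is_maximal' hK le_sup_left]
    exact Subgroup.mem_sup_right (Subgroup.mem_zpowers _)
  have hz1 : z = 1 := hS.eq_one_of_fixed hqp R hzR fun g hg =>
    Subgroup.mem_centralizer_singleton_iff.1 (hcent (hU.normalizer_le hRM hzR hzo hg))
  rw [hz1, orderOf_one] at hzo
  exact hq.ne_one hzo.symm

/-- The centre of `D` fixes no element of the core. -/
theorem Owns.eq_one_of_commute_center [Finite G] (hS : Setting p G) (hO : Owns p M D) {c : G}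
    (hc : c ∈ core p M) (hD : ∀ d ∈ D ⊓ Subgroup.centralizer (D : Set G), d * c = c * d) : c = 1 := by
  by_contra hc1
  haveI := Fact.mk hS.hp
  obtain ⟨q, hq, hqd⟩ := Nat.exists_prime_and_dvd (mt orderOf_eq_one_iff.1 hc1)
  haveI := Fact.mk hq
  have hqp : q ≠ p := fun e => isPreg_of_mem hS.hp (card_core_coprime M) hc (e ▸ hqd)
  have hqM : q ∣ Nat.card M := hqd.trans (Subgroup.orderOf_dvd_natCard M (core_le M hc))
  obtain ⟨hU, -⟩ := hO.good.2 q hq hqp hqM
  set z := c ^ (orderOf c / q) with hz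
  have hzo : orderOf z = q := orderOf_pow_orderOf_div (orderOf_pos c).ne' hqd
  set ZD := D ⊓ Subgroup.centralizer (D : Set G) with hZD
  set W := core p M ⊓ Subgroup.centralizer (ZD : Set G) with hW
  have hWc : ∀ a ∈ W, ∀ b ∈ W, a * b = b * a := fun a ha b hb => hS.core_comm M ha.1 hb.1
  set Y := omega1 q W with hY
  have hzY : z ∈ Y := (mem_omega1_iff hWc).2 ⟨⟨pow_mem hc _, fun d hd =>
    ((show Commute d c from hD d hd).pow_right _).eq⟩, by rw [← hzo, pow_orderOf_eq_one]⟩
  have hYM : Y ≤ M := ((omega1_le q W).trans inf_le_left).trans (core_le M)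
  have hYr : ∀ v ∈ Y, v ^ q = 1 := fun v hv => ((mem_omega1_iff hWc).1 hv).2
  by_cases hcy : IsCyclic Y
  · -- then `D` centralises `z`
    have hYexp : ∀ v ∈ Y, v ^ (p - 1) = 1 := fun v hv =>
      (hS.hyp _ (card_core_coprime M)).2 v (omega1_le q W hv).1
    have hz1 : z = 1 := hO.eq_one_of_commute hS (pow_mem hc _) fun d hd => by
      refine commute_of_cyclic hS.hp hYexp (isPEl_of_mem hO.isPGroup hd) ?_ hzY
      refine CfsgLib.Comp.mem_normalizer_of_maps fun y hy => omega1_conj (fun w hw => ?_) hy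
      refine ⟨core_conj (hO.le hd) hw.1, fun e he => ?_⟩
      have hde : d * e = e * d := (he.2 d hd : d * e = e * d)
      have hwe : e * w = w * e := hw.2 e he
      calc e * (d * w * d⁻¹) = (e * d) * w * d⁻¹ := by group
        _ = d * (e * w) * d⁻¹ := by rw [← hde]; group
        _ = d * (w * e) * d⁻¹ := by rw [hwe]
        _ = d * w * (e * d⁻¹) := by group
        _ = d * w * (d⁻¹ * e) := by rw [(show Commute d e from hde).inv_left.eq]
        _ = d * w * d⁻¹ * e := by group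
    rw [hz1, orderOf_one] at hzo
    exact hq.ne_one hzo.symm
  · have hZne : ZD ≠ ⊥ := by
      intro h
      haveI : Nontrivial D := (Subgroup.nontrivial_iff_ne_bot _).2 (hO.ne_bot hS)
      obtain ⟨x, hx, hx1⟩ := (Subgroup.ne_bot_iff_exists_ne_one.1
        ((Subgroup.nontrivial_iff_ne_bot _).1 hO.isPGroup.center_nontrivial)) |>
        fun ⟨a, ha⟩ => (⟨(a : D), a.2, fun h => ha (Subtype.ext h)⟩ : ∃ x ∈ Subgroup.center D, x ≠ 1)
      have : (x : G) ∈ ZD := ⟨x.2, fun d hd =>
        congrArg Subtype.val (Subgroup.mem_center_iff.1 hx ⟨d, hd⟩)⟩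
      rw [h, Subgroup.mem_bot] at this
      exact hx1 (Subtype.ext this)
    have hXne : Subgroup.normalizer (ZD : Set G) ≠ ⊤ :=
      hS.normalizer_ne_top hZne (hS.ne_top_of_isPGroup (hO.isPGroup.to_le inf_le_left))
    obtain ⟨g, hgM, -, hgZ⟩ := hO.mover_zj hS
    refine hgM (hS.le_of_noncyclic hq hqp hU hXne hcy ?_ hYM hYr hgZ)
    refine ((omega1_le q W).trans inf_le_right).trans fun y hy => ?_
    exact CfsgLib.Comp.mem_normalizer_of_maps fun d hd => by
      rw [← hy d hd, mul_inv_cancel_right]; exact hd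

/-- A `p`-element of `D` fixing a nontrivial element of the core has its centraliser in `M`. -/
theorem Owns.centralizer_le [Finite G] (hS : Setting p G) (hO : Owns p M D) {x c : G} (hx : x ∈ D) (hx1 : x ≠ 1)
    (hc : c ∈ core p M) (hc1 : c ≠ 1) (hxc : x * c = c * x) :
    Subgroup.centralizer ({x} : Set G) ≤ M := by
  haveI := Fact.mk hS.hp
  obtain ⟨q, hq, hqd⟩ := Nat.exists_prime_and_dvd (mt orderOf_eq_one_iff.1 hc1)
  haveI := Fact.mk hq
  have hqp : q ≠ p := fun e => isPreg_of_mem hS.hp (card_core_coprime M) hc (e ▸ hqd)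
  have hqM : q ∣ Nat.card M := hqd.trans (Subgroup.orderOf_dvd_natCard M (core_le M hc))
  obtain ⟨hU, -⟩ := hO.good.2 q hq hqp hqM
  set z := c ^ (orderOf c / q) with hz
  have hzo : orderOf z = q := orderOf_pow_orderOf_div (orderOf_pos c).ne' hqd
  set W := core p M ⊓ Subgroup.centralizer ({x} : Set G) with hW
  have hWc : ∀ a ∈ W, ∀ b ∈ W, a * b = b * a := fun a ha b hb => hS.core_comm M ha.1 hb.1
  set Y := omega1 q W with hY
  have hzY : z ∈ Y := (mem_omega1_iff hWc).2 ⟨⟨pow_mem hc _, Subgroup.mem_centralizer_singleton_iff.2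
    ((show Commute x c from hxc).pow_right _).eq.symm⟩, by rw [← hzo, pow_orderOf_eq_one]⟩
  by_cases hcy : IsCyclic Y
  · have hYexp : ∀ v ∈ Y, v ^ (p - 1) = 1 := fun v hv =>
      (hS.hyp _ (card_core_coprime M)).2 v (omega1_le q W hv).1
    have hz1 : z = 1 := hO.eq_one_of_commute_center hS (pow_mem hc _) fun d hd => by
      refine commute_of_cyclic hS.hp hYexp (isPEl_of_mem hO.isPGroup hd.1) ?_ hzY
      refine CfsgLib.Comp.mem_normalizer_of_maps fun y hy => omega1_conj (fun w hw => ?_) hy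
      refine ⟨core_conj (hO.le hd.1) hw.1, Subgroup.mem_centralizer_singleton_iff.2 ?_⟩
      have hdx : x * d = d * x := hd.2 x hx
      have hwx : w * x = x * w := Subgroup.mem_centralizer_singleton_iff.1 hw.2
      exact ((Commute.mul_left (Commute.mul_left (show Commute d x from hdx.symm) (show Commute w x from hwx))
        (show Commute d x from hdx.symm).inv_left)).eq
    rw [hz1, orderOf_one] at hzo
    exact absurd hzo.symm hq.ne_one
  · exact hS.le_of_noncyclic hq hqp hU (hS.centralizer_ne_top hx1) hcy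
      ((omega1_le q W).trans inf_le_right) (((omega1_le q W).trans inf_le_left).trans (core_le M))
      (fun v hv => ((mem_omega1_iff hWc).1 hv).2)

end CfsgLib.ExpPm1
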