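import Cfsg.Agent.Lib.ExpPm1.Solv
import Cfsg.Agent.Lib.TransferApps

/-!
A minimal counterexample: the Sylow subgroups for primes other than `p`.
-/

set_option autoImplicit false
set_option linter.unusedSectionVars false

namespace CfsgLib.ExpPm1

open Cfsg
open scoped commutatorElement Pointwise

universe u
variable {G : Type u} [Group G] {p r : ℕ}

/-- The situation of a minimal counterexample. -/
structure Setting (p : ℕ) (G : Type u) [Group G] : Prop where
  hp : p.Prime
  five : 5 ≤ p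
  hyp : Hyp p G
  sol : ∀ X : Subgroup G, X ≠ ⊤ → Group.IsSolvable X
  simple : ∀ N : Subgroup G, N.Normal → N = ⊥ ∨ N = ⊤
  center : Subgroup.center G = ⊥
  perfect : commutator G = ⊤
  dvd : p ∣ Nat.card G

theorem Setting.ne_bot (hS : Setting p G) : (⊤ : Subgroup G) ≠ ⊥ := by
  intro h
  have h1 : Nat.card G = 1 := by rw [← Subgroup.card_top (G := G), h, Subgroup.card_bot]
  exact hS.hp.not_dvd_one (h1 ▸ hS.dvd)

theorem Setting.normalizer_ne_top (hS : Setting p G) {X : Subgroup G} (h1 : X ≠ ⊥) (h2 : X ≠ ⊤) :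
    Subgroup.normalizer (X : Set G) ≠ ⊤ := fun h =>
  (hS.simple X (Subgroup.normalizer_eq_top_iff.1 h)).elim h1 h2

theorem Setting.centralizer_ne_top (hS : Setting p G) {a : G} (ha : a ≠ 1) :
    Subgroup.centralizer ({a} : Set G) ≠ ⊤ := fun h => ha <| by
  rw [← Subgroup.mem_bot, ← hS.center, Subgroup.mem_center_iff]
  intro g
  exact Subgroup.mem_centralizer_singleton_iff.1 (h ▸ Subgroup.mem_top g : g ∈ Subgroup.centralizer ({a} : Set G))

theorem Setting.ne_top_of_isPGroup [Finite G] (hS : Setting p G) {X : Subgroup G} {q : ℕ} [Fact q.Prime]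
    (hX : IsPGroup q X) : X ≠ ⊤ := by
  intro h
  have hG : IsPGroup q G := IsPGroup.of_equiv (h ▸ hX) Subgroup.topEquiv
  haveI : Nontrivial G := (Subgroup.nontrivial_iff).1 ⟨⊤, ⊥, hS.ne_bot⟩
  have := hG.center_nontrivial
  rw [hS.center] at this
  exact not_nontrivial _ this

theorem Setting.r_lt [Finite G] (hS : Setting p G) (hr : r.Prime) (hrp : r ≠ p) (hd : r ∣ Nat.card G) :
    r + 1 < p := by
  have h1 := hS.hyp.dvd_pred hS.hp hr hrp hd
  have h5 := hS.five
  have h2 := Nat.le_of_dvd (by omega) h1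
  rcases Nat.lt_or_ge (r + 1) p with h | h
  · exact h
  · exfalso
    have hr' : r = p - 1 := by omega
    have : 2 ∣ r := by
      rw [hr']
      rcases hS.hp.eq_two_or_odd with h | h <;> omega
    rcases (Nat.dvd_prime hr).1 this with h | h <;> omega

theorem Setting.commute_in_sylow [Finite G] (hS : Setting p G) [Fact r.Prime] (hrp : r ≠ p) (R : Sylow r G)
    {a b : G} (ha : a ∈ (R : Subgroup G)) (hb : b ∈ (R : Subgroup G)) : a * b = b * a :=
  (hS.hyp _ (coprime_of_isPGroup hS.hp Fact.out hrp R.2)).1 a ha b hb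

/-- Elements fixed by the normaliser of a Sylow subgroup vanish. -/
theorem Setting.eq_one_of_fixed [Finite G] (hS : Setting p G) [Fact r.Prime] (hrp : r ≠ p) (R : Sylow r G)
    {z : G} (hz : z ∈ (R : Subgroup G))
    (hfix : ∀ g ∈ Subgroup.normalizer ((R : Subgroup G) : Set G), g * z = z * g) : z = 1 := by
  haveI hR : IsMulCommutative (R : Subgroup G) :=
    ⟨⟨fun a b => Subtype.ext (hS.commute_in_sylow hrp R a.2 b.2)⟩⟩
  open scoped IsMulCommutative in
  have key : z ^ (R : Subgroup G).index = 1 := by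
    have hk : ∀ (k : ℕ) (g₀ : G), g₀⁻¹ * z ^ k * g₀ ∈ (R : Subgroup G) → g₀⁻¹ * z ^ k * g₀ = z ^ k := by
      intro k g₀ hk
      obtain ⟨n, hn, e⟩ := CfsgLib.TransferApps.exists_normalizer_conj_of_abelian R hR (pow_mem hz k) (g := g₀⁻¹)
        (by simpa using hk)
      have hc : n * z ^ k = z ^ k * n := ((show Commute n z from hfix n hn).pow_right k).eq
      rw [hc, mul_inv_cancel_right, inv_inv] at e
      exact e.symm
    have h1 := MonoidHom.transfer_eq_pow (MonoidHom.id (R : Subgroup G)) z hk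
    set f := MonoidHom.transfer (MonoidHom.id (R : Subgroup G)) with hf
    have hker : f.ker = ⊤ := by
      rcases hS.simple f.ker inferInstance with h | h
      · exfalso
        have hab : ∀ a b : G, a * b = b * a := fun a b =>
          ((MonoidHom.ker_eq_bot_iff f).1 h) (by rw [map_mul, map_mul, mul_comm])
        have : commutator G = ⊥ := by
          rw [commutator_def, eq_bot_iff, Subgroup.commutator_le]
          intro a _ b _
          rw [Subgroup.mem_bot, commutatorElement_eq_one_iff_mul_comm]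
          exact hab a b
        rw [hS.perfect] at this
        exact hS.ne_bot this
      · exact h
    have h2 : f z = 1 := MonoidHom.mem_ker.1 (hker ▸ Subgroup.mem_top z)
    rw [h2] at h1
    exact (congrArg Subtype.val h1).symm
  obtain ⟨k, hk⟩ := isPEl_of_mem R.2 hz
  obtain ⟨e, -, he⟩ := (Nat.dvd_prime_pow Fact.out).1 (orderOf_dvd_of_pow_eq_one hk)
  rw [← orderOf_eq_one_iff]
  refine Nat.eq_one_of_dvd_coprimes ?_ (dvd_refl _) (orderOf_dvd_of_pow_eq_one key)
  rw [he]
  exact ((Fact.out : r.Prime).coprime_iff_not_dvd.2 R.not_dvd_index).pow_left e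

/-- A nontrivial Sylow subgroup has a `p`-element of its normaliser acting nontrivially. -/
theorem Setting.exists_not_commute [Finite G] (hS : Setting p G) [Fact r.Prime] (hrp : r ≠ p)
    (hd : r ∣ Nat.card G) (R : Sylow r G) :
    ∃ x ∈ Subgroup.normalizer ((R : Subgroup G) : Set G), IsPEl p x ∧
      ∃ a ∈ (R : Subgroup G), x * a ≠ a * x := by
  by_contra hno
  push Not at hno
  obtain ⟨z, hz, hz1⟩ := Subgroup.ne_bot_iff_exists_ne_one.1 (R.ne_bot_of_dvd_card hd) |>
    fun ⟨a, ha⟩ => (⟨(a : G), a.2, fun h => ha (Subtype.ext h)⟩ : ∃ z ∈ (R : Subgroup G), z ≠ 1)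
  refine hz1 (hS.eq_one_of_fixed hrp R hz fun g hg => ?_)
  obtain ⟨x, w, e, -, hx, hw, hxz, hwz⟩ := exists_parts hS.hp g
  have h1 : Commute x z := hno x (Subgroup.zpowers_le.2 hg hxz) hx z hz
  have h2 : Commute w z := hS.hyp.commute_of_normalizes hS.hp
    (coprime_of_isPGroup hS.hp Fact.out hrp R.2) hw (Subgroup.zpowers_le.2 hg hwz) hz
  rw [← e]
  exact (h1.mul_left h2).eq

/-- The elements of order dividing `r` of an abelian subgroup. -/
def omega1 (r : ℕ) (R : Subgroup G) : Subgroup G := Subgroup.closure {x : G | x ∈ R ∧ x ^ r = 1}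

theorem omega1_le (r : ℕ) (R : Subgroup G) : omega1 r R ≤ R :=
  (Subgroup.closure_le R).2 fun _ hx => hx.1

theorem mem_omega1_iff {R : Subgroup G} (hR : ∀ a ∈ R, ∀ b ∈ R, a * b = b * a) {x : G} :
    x ∈ omega1 r R ↔ x ∈ R ∧ x ^ r = 1 := by
  refine ⟨fun h => ?_, fun h => Subgroup.subset_closure h⟩
  refine Subgroup.closure_induction (p := fun y _ => y ∈ R ∧ y ^ r = 1) (fun y hy => hy)
    ⟨one_mem _, one_pow _⟩ ?_ ?_ h
  · rintro a b - - ⟨ha, ha'⟩ ⟨hb, hb'⟩
    exact ⟨mul_mem ha hb, by rw [(show Commute a b from hR a ha b hb).mul_pow, ha', hb', one_mul]⟩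
  · rintro a - ⟨ha, ha'⟩
    exact ⟨inv_mem ha, by rw [inv_pow, ha', inv_one]⟩

theorem isElementaryAbelian_omega1 {R : Subgroup G} (hR : ∀ a ∈ R, ∀ b ∈ R, a * b = b * a) :
    IsElementaryAbelian r (omega1 r R) :=
  ⟨⟨⟨fun a b => Subtype.ext (hR _ (omega1_le r R a.2) _ (omega1_le r R b.2))⟩⟩,
    fun _ ha => ((mem_omega1_iff hR).1 ha).2⟩

theorem omega1_conj {R R' : Subgroup G} {g : G} (h : ∀ x ∈ R, g * x * g⁻¹ ∈ R') {x : G}
    (hx : x ∈ omega1 r R) : g * x * g⁻¹ ∈ omega1 r R' := by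
  have hle : omega1 r R ≤ (omega1 r R').comap (MulAut.conj g).toMonoidHom :=
    (Subgroup.closure_le _).2 fun y hy => Subgroup.subset_closure
      ⟨h y hy.1, by rw [MulEquiv.coe_toMonoidHom, MulAut.conj_apply, conj_pow, hy.2, mul_one, mul_inv_cancel]⟩
  exact hle hx

theorem not_isCyclic_of_card [Finite G] (hr : r.Prime) {V : Subgroup G} (hV : ∀ v ∈ V, v ^ r = 1)
    (hc : r * r ≤ Nat.card V) : ¬ IsCyclic V := fun h => by
  obtain ⟨g, hg⟩ := IsCyclic.exists_generator (α := V)
  have h1 : orderOf g ∣ r := orderOf_dvd_of_pow_eq_one (Subtype.ext (by simpa using hV _ g.2))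
  rw [orderOf_eq_card_of_forall_mem_zpowers hg] at h1
  have := Nat.le_of_dvd hr.pos h1
  have := hr.two_le
  nlinarith

/-- An element of order prime to `r` fixing the elements of order `r` of an abelian `r`-group fixes it. -/
theorem fix_of_fix_omega [Finite G] (hr : r.Prime) {R : Subgroup G} (hR : IsPGroup r R)
    (hcomm : ∀ a ∈ R, ∀ b ∈ R, a * b = b * a) {x : G} (hx : ¬ r ∣ orderOf x)
    (hn : x ∈ Subgroup.normalizer (R : Set G)) (hfix : ∀ a ∈ R, a ^ r = 1 → x * a * x⁻¹ = a) :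
    ∀ a ∈ R, x * a * x⁻¹ = a := by
  suffices key : ∀ k : ℕ, ∀ a ∈ R, a ^ r ^ k = 1 → x * a * x⁻¹ = a by
    intro a ha
    obtain ⟨k, hk⟩ := isPEl_of_mem hR ha
    exact key k a ha hk
  intro k
  induction k with
  | zero =>
    intro a _ h
    rw [pow_zero, pow_one] at h
    simp [h]
  | succ k ih =>
    intro a ha h
    have h1 : x * a ^ r * x⁻¹ = a ^ r := ih _ (pow_mem ha r) (by rwa [← pow_mul, ← pow_succ'])
    have hxa : x * a * x⁻¹ ∈ R := (Subgroup.mem_normalizer_iff.1 hn a).1 ha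
    set c := a⁻¹ * (x * a * x⁻¹) with hc
    have hcR : c ∈ R := mul_mem (inv_mem ha) hxa
    have hcr : c ^ r = 1 := by
      rw [hc, (show Commute a⁻¹ (x * a * x⁻¹) from hcomm _ (inv_mem ha) _ hxa).mul_pow, conj_pow, h1,
        inv_pow, inv_mul_cancel]
    have hcx : x * c * x⁻¹ = c := hfix c hcR hcr
    have hxc : ∀ n : ℕ, x ^ n * a * (x ^ n)⁻¹ = a * c ^ n := by
      intro n
      induction n with
      | zero => simp
      | succ n ihn =>
        rw [pow_succ', show x * x ^ n * a * (x * x ^ n)⁻¹ = x * (x ^ n * a * (x ^ n)⁻¹) * x⁻¹ by group,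
          ihn, show x * (a * c ^ n) * x⁻¹ = (x * a * x⁻¹) * (x * c ^ n * x⁻¹) by group, ← conj_pow, hcx,
          pow_succ', ← mul_assoc a c, hc, mul_inv_cancel_left]
    have h2 := hxc (orderOf x)
    rw [pow_orderOf_eq_one, inv_one, one_mul, mul_one, left_eq_mul] at h2
    have h3 : orderOf c = 1 := Nat.eq_one_of_dvd_coprimes (hr.coprime_iff_not_dvd.2 hx)
      (orderOf_dvd_of_pow_eq_one hcr) (orderOf_dvd_of_pow_eq_one h2)
    rw [orderOf_eq_one_iff, hc, inv_mul_eq_one] at h3
    exact h3.symm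

/-- The group of elements of order `r` in a Sylow `r`-subgroup has order at least `r ^ 3`. -/
theorem Setting.card_omega1 [Finite G] (hS : Setting p G) [Fact r.Prime] (hrp : r ≠ p)
    (hd : r ∣ Nat.card G) (R : Sylow r G) : r ^ 3 ≤ Nat.card (omega1 r (R : Subgroup G)) := by
  classical
  haveI := Fact.mk hS.hp
  have hr := (Fact.out : r.Prime)
  have hcomm : ∀ a ∈ (R : Subgroup G), ∀ b ∈ (R : Subgroup G), a * b = b * a :=
    fun a ha b hb => hS.commute_in_sylow hrp R ha hb
  set A := omega1 r (R : Subgroup G) with hA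
  obtain ⟨n, hn⟩ := (R.2.to_le (omega1_le r (R : Subgroup G))).exists_card_eq
  by_contra hlt
  push Not at hlt
  rw [hn] at hlt
  have hn2 : n ≤ 2 := by
    by_contra h
    exact absurd (Nat.pow_le_pow_right hr.pos (show 3 ≤ n by omega)) (by omega)
  obtain ⟨x, hxN, hx, a, haR, hxa⟩ := hS.exists_not_commute hrp hd R
  -- `x` acts on `A`
  have hxA : ∀ b ∈ A, x * b * x⁻¹ ∈ A := fun b hb =>
    omega1_conj (fun y hy => (Subgroup.mem_normalizer_iff.1 hxN y).1 hy) hb
  have hxn : x ∈ Subgroup.normalizer (A : Set G) := Signalizer.inv_to_normalizer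
    (A := Subgroup.zpowers x) (U := A) (fun b hb u hu => by
      have : ∀ b ∈ Subgroup.zpowers x, b ∈ Subgroup.normalizer (A : Set G) := fun b hb =>
        Subgroup.zpowers_le.2 (CfsgLib.Comp.mem_normalizer_of_maps hxA) hb
      exact (Subgroup.mem_normalizer_iff.1 (this b hb) u).1 hu) (Subgroup.mem_zpowers x)
  obtain ⟨k, hk⟩ := hx
  set σ : Equiv.Perm A := (MulAut.toPerm A).comp A.normalizerMonoidHom ⟨x, hxn⟩ with hσ
  have hσk : σ ^ p ^ k = 1 := by
    rw [hσ, ← map_pow, show (⟨x, hxn⟩ : Subgroup.normalizer (A : Set G)) ^ p ^ k = 1 from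
      Subtype.ext (by simpa using hk), map_one]
  -- the fixed points form a subgroup of order a power of `r`
  set F := A ⊓ Subgroup.centralizer ({x} : Set G) with hF
  obtain ⟨m, hm⟩ := (R.2.to_le (inf_le_left.trans (omega1_le r (R : Subgroup G)) : F ≤ _)).exists_card_eq
  have hfix : ∀ b : A, σ b = b ↔ (b : G) ∈ F := by
    intro b
    rw [hσ, hF, Subgroup.mem_inf, Subgroup.mem_centralizer_singleton_iff]
    refine ⟨fun h => ⟨b.2, ?_⟩, fun h => Subtype.ext ?_⟩
    · have : x * b * x⁻¹ = b := congrArg Subtype.val h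
      exact (mul_inv_eq_iff_eq_mul.1 this).symm
    · show x * b * x⁻¹ = b
      exact mul_inv_eq_iff_eq_mul.2 h.2.symm
  have hmod : Nat.card A ≡ Nat.card F [MOD p] := by
    have hP : IsPGroup p (Subgroup.zpowers σ) := IsPEl.isPGroup_zpowers (x := σ) ⟨k, hσk⟩
    have h1 := hP.card_modEq_card_fixedPoints A
    have h2 : Nat.card (MulAction.fixedPoints (Subgroup.zpowers σ) A) = Nat.card F := by
      refine Nat.card_congr ⟨fun b => ⟨(b : A).1, (hfix b).1 (b.2 ⟨σ, Subgroup.mem_zpowers σ⟩)⟩,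
        fun f => ⟨⟨f, f.2.1⟩, fun g => ?_⟩, fun b => rfl, fun f => rfl⟩
      obtain ⟨g, j, rfl⟩ := g
      show (σ ^ j) _ = _
      exact Equiv.Perm.zpow_apply_eq_self_of_apply_eq_self ((hfix _).2 f.2) j
    rwa [h2] at h1
  rw [hn, hm] at hmod
  have hmn : m ≤ n := by
    have := Subgroup.card_le_of_le (inf_le_left : F ≤ A)
    rw [hn, hm] at this
    exact (Nat.pow_le_pow_iff_right hr.one_lt).1 this
  have hmne : m ≠ n := by
    intro e
    have hFA : F = A := Subgroup.eq_of_le_of_card_ge inf_le_left (by rw [hn, hm, e])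
    have hxr : ¬ r ∣ orderOf x := fun hdx =>
      hrp ((Nat.prime_dvd_prime_iff_eq hr hS.hp).1
        (hr.dvd_of_dvd_pow (hdx.trans (orderOf_dvd_of_pow_eq_one hk))))
    have := fix_of_fix_omega hr R.2 hcomm hxr hxN (fun b hb hbr => by
      have hbF : b ∈ F := hFA ▸ (mem_omega1_iff hcomm).2 ⟨hb, hbr⟩
      exact mul_inv_eq_iff_eq_mul.2 (Subgroup.mem_centralizer_singleton_iff.1 hbF.2).symm) a haR
    exact hxa (mul_inv_eq_iff_eq_mul.1 this)
  have hrlt := hS.r_lt hr hrp hd
  have hr2 := hr.two_le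
  have hco : p.Coprime (r ^ m) :=
    ((hS.hp.coprime_iff_not_dvd).2 fun h => absurd (Nat.le_of_dvd hr.pos h) (by omega)).pow_right m
  have hd' : p ∣ r ^ n - r ^ m :=
    (Nat.modEq_iff_dvd' (Nat.pow_le_pow_right hr.pos hmn)).1 hmod.symm
  rw [show r ^ n = r ^ m * r ^ (n - m) by rw [← pow_add, Nat.add_sub_cancel' hmn],
    ← Nat.mul_sub_one] at hd'
  have hd'' := hco.dvd_of_dvd_mul_left hd'
  obtain h | h : n - m = 1 ∨ n - m = 2 := by omega
  · rw [h, pow_one] at hd''
    exact absurd (Nat.le_of_dvd (by omega) hd'') (by omega)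
  · rw [h, show r ^ 2 - 1 = (r + 1) * (r - 1) by rw [← Nat.sq_sub_sq r 1, one_pow]] at hd''
    rcases hS.hp.dvd_mul.1 hd'' with h' | h'
    · exact absurd (Nat.le_of_dvd (by omega) h') (by omega)
    · exact absurd (Nat.le_of_dvd (by omega) h') (by omega)

theorem Setting.not_isCyclic_omega1 [Finite G] (hS : Setting p G) [Fact r.Prime] (hrp : r ≠ p)
    (hd : r ∣ Nat.card G) (R : Sylow r G) : ¬ IsCyclic (omega1 r (R : Subgroup G)) := by
  refine not_isCyclic_of_card Fact.out
    (fun v hv => ((mem_omega1_iff fun a ha b hb => hS.commute_in_sylow hrp R ha hb).1 hv).2) ?_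
  calc r * r = r ^ 2 := (sq r).symm
    _ ≤ r ^ 3 := Nat.pow_le_pow_right (Fact.out : r.Prime).pos (by norm_num)
    _ ≤ _ := hS.card_omega1 hrp hd R

end CfsgLib.ExpPm1
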